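import Mathlib
import Cfsg.Agent.Solvable.Carter
import Cfsg.Agent.Lib.MinNormal
import Cfsg.Prelude.Def_SolvableStructure
import Cfsg.Agent.S0569
import Cfsg.Agent.SolvableStructure.SystemNormalizer
import Cfsg.Agent.Lib.NormalAbelian
import Cfsg.Agent.FastGrp
import Cfsg.Agent.Prune
set_option linter.all false

section
prune_inst 0x7f00000000000000000000000000000000000000000000000000000000000000000000000000000000000000000000000000000000000000000000000000000000000000000000000000000000000000003fffffffffffffffffffffffffffbeffbdffffffff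

-- part: H18/Carter/Ctx
section
set_option linter.all false
open scoped Cfsg.Agent.FastGrp

-- part: H18/Carter/Basic
section
/-!
# Conjugacy of Carter subgroups: general lemmas for the reduction to almost simple groups
-/

set_option autoImplicit false
set_option linter.unusedSectionVars false
set_option linter.unusedVariables false

namespace Cfsg.Agent.H18.Carter

open Subgroup Pointwise
open Cfsg.Agent.Solvable.Carter
open scoped commutatorElement

universe u

/-- any two Carter subgroups are conjugate -/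
def CC (G : Type u) [Group G] : Prop :=
  ∀ C D : Subgroup G, IsCarter C → IsCarter D → ∃ g : G, MulAut.conj g • C = D

section

variable {G : Type u} [Group G]

theorem CC.of_solvable [Finite G] (h : Group.IsSolvable G) : CC G := fun C D hC hD => (carter G h).2 C D hC hD

theorem mem_cj {g x : G} {C : Subgroup G} : x ∈ MulAut.conj g • C ↔ g⁻¹ * x * g ∈ C := mem_conj_smul_iff

theorem cj_mem {g x : G} {C : Subgroup G} (hx : x ∈ C) : g * x * g⁻¹ ∈ MulAut.conj g • C := by
  rw [mem_cj]
  have e : g⁻¹ * (g * x * g⁻¹) * g = x := by group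
  rwa [e]

theorem cj_eq_self_iff {g : G} {C : Subgroup G} : MulAut.conj g • C = C ↔ g ∈ normalizer (C : Set G) :=
  conj_smul_eq_iff_mem_normalizer

theorem cj_self {g : G} {C : Subgroup G} (h : g ∈ C) : MulAut.conj g • C = C := cj_eq_self_iff.2 (le_normalizer h)

theorem cj_cj (g h : G) (C : Subgroup G) : MulAut.conj g • MulAut.conj h • C = MulAut.conj (g * h) • C := by
  rw [smul_smul, ← map_mul]

theorem cj_one (C : Subgroup G) : MulAut.conj (1 : G) • C = C := by rw [map_one, one_smul]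

theorem cj_normalizer (g : G) (X : Subgroup G) :
    MulAut.conj g • normalizer (X : Set G) = normalizer ((MulAut.conj g • X : Subgroup G) : Set G) := by
  ext x
  rw [mem_cj, mem_normalizer_conj_smul]

theorem cj_centralizer (g : G) (X : Subgroup G) :
    MulAut.conj g • centralizer (X : Set G) = centralizer ((MulAut.conj g • X : Subgroup G) : Set G) := by
  ext x
  rw [mem_cj]
  constructor
  · intro h y hy
    have hy' := mem_cj.1 hy
    have h1 := h _ hy'
    have : g⁻¹ * (y * x) * g = g⁻¹ * (x * y) * g := by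
      calc g⁻¹ * (y * x) * g = (g⁻¹ * y * g) * (g⁻¹ * x * g) := by group
        _ = (g⁻¹ * x * g) * (g⁻¹ * y * g) := h1
        _ = _ := by group
    exact mul_left_cancel (mul_right_cancel this)
  · intro h y hy
    have h1 := h _ (cj_mem (g := g) hy)
    calc y * (g⁻¹ * x * g) = g⁻¹ * ((g * y * g⁻¹) * x) * g := by group
      _ = g⁻¹ * (x * (g * y * g⁻¹)) * g := by rw [h1]
      _ = _ := by group

theorem cj_normal (g : G) {N : Subgroup G} (hN : N.Normal) : MulAut.conj g • N = N := by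
  rw [cj_eq_self_iff, normalizer_eq_top]
  trivial

theorem mul_mem_of_norm {A B : Subgroup G} (h : B ≤ normalizer (A : Set G)) {x : G} (hx : x ∈ A ⊔ B) :
    ∃ a ∈ A, ∃ b ∈ B, x = a * b := by
  have h1 := coe_mul_of_right_le_normalizer_left A B h
  have h2 : x ∈ ((A ⊔ B : Subgroup G) : Set G) := hx
  rw [h1] at h2
  obtain ⟨a, ha, b, hb, e⟩ := h2
  exact ⟨a, ha, b, hb, e.symm⟩

theorem mul_mem_of_norm' {A B : Subgroup G} (h : A ≤ normalizer (B : Set G)) {x : G} (hx : x ∈ A ⊔ B) :
    ∃ a ∈ A, ∃ b ∈ B, x = a * b := by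
  rw [sup_comm] at hx
  obtain ⟨b, hb, a, ha, e⟩ := mul_mem_of_norm h (inv_mem hx)
  exact ⟨a⁻¹, inv_mem ha, b⁻¹, inv_mem hb, by rw [← mul_inv_rev, ← e, inv_inv]⟩

/-- `[D C, D C] ≤ [D, D] C` for `D` normalising `C` -/
theorem commutator_sup_le {D C : Subgroup G} (h : D ≤ normalizer (C : Set G)) : ⁅D ⊔ C, D ⊔ C⁆ ≤ ⁅D, D⁆ ⊔ C := by
  have hc : ∀ d ∈ D, ∀ c ∈ C, d * c * d⁻¹ ∈ C := fun d hd c hc => (mem_normalizer_iff.1 (h hd) c).1 hc
  rw [commutator_le]
  intro x hx y hy
  obtain ⟨d, hd, c, hcC, rfl⟩ := mul_mem_of_norm' h hx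
  obtain ⟨d', hd', c', hc', rfl⟩ := mul_mem_of_norm' h hy
  have e : ⁅d * c, d' * c'⁆ = (d * c * d⁻¹) * ((d * d') * (c' * c⁻¹) * (d * d')⁻¹) * ⁅d, d'⁆ * (d' * c'⁻¹ * d'⁻¹) := by
    simp only [commutatorElement_def]; group
  rw [e]
  refine mul_mem (mul_mem (mul_mem ?_ ?_) ?_) ?_
  · exact mem_sup_right (hc d hd c hcC)
  · exact mem_sup_right (hc _ (mul_mem hd hd') _ (mul_mem hc' (inv_mem hcC)))
  · exact mem_sup_left (commutator_mem_commutator hd hd')
  · exact mem_sup_right (hc d' hd' _ (inv_mem hc'))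

/-- a perfect subgroup of `K C`, `K` solvable normalising `C`, lies in `C` -/
theorem perfect_le {P K C : Subgroup G} (hP : ⁅P, P⁆ = P) (hK : Group.IsSolvable K) (hKC : K ≤ normalizer (C : Set G))
    (h : P ≤ K ⊔ C) : P ≤ C := by
  have key : ∀ n : ℕ, P ≤ (derivedSeries K n).map K.subtype ⊔ C := by
    intro n
    induction n with
    | zero =>
      rw [derivedSeries_zero, ← MonoidHom.range_eq_map, range_subtype]
      exact h
    | succ n ih =>
      rw [derivedSeries_succ, map_commutator]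
      have h1 : (derivedSeries K n).map K.subtype ≤ normalizer (C : Set G) := (map_subtype_le _).trans hKC
      calc P = ⁅P, P⁆ := hP.symm
        _ ≤ ⁅(derivedSeries K n).map K.subtype ⊔ C, (derivedSeries K n).map K.subtype ⊔ C⁆ := commutator_mono ih ih
        _ ≤ _ := commutator_sup_le h1
  obtain ⟨n, hn⟩ := hK.solvable
  have h1 := key n
  rwa [hn, Subgroup.map_bot, bot_sup_eq] at h1

/-- a finite subgroup without nontrivial perfect subgroups is solvable -/
theorem solvable_of_perfect [Finite G] {M : Subgroup G} (h : ∀ P : Subgroup G, P ≤ M → ⁅P, P⁆ = P → P = ⊥) :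
    Group.IsSolvable M := by
  let f : ℕ → Subgroup G := fun n => (derivedSeries M n).map M.subtype
  have hanti : ∀ n, f (n + 1) ≤ f n := fun n => map_mono (derivedSeries_antitone M (Nat.le_succ n))
  obtain ⟨n, hn⟩ : ∃ n, f (n + 1) = f n := by
    by_contra hcon
    push Not at hcon
    have hlt : ∀ n, Nat.card (f (n + 1)) < Nat.card (f n) := by
      intro n
      refine lt_of_le_of_ne (card_le_of_le (hanti n)) fun e => hcon n ?_
      exact eq_of_le_of_card_ge (hanti n) e.ge
    have hb : ∀ n, Nat.card (f n) + n ≤ Nat.card (f 0) := by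
      intro n
      induction n with
      | zero => simp
      | succ n ih => have := hlt n; omega
    have h1 := hb (Nat.card (f 0))
    have h2 : 0 < Nat.card (f (Nat.card (f 0))) := Nat.card_pos
    omega
  have h1 : ⁅f n, f n⁆ = f n := by
    conv_rhs => rw [← hn]
    show _ = (derivedSeries M (n + 1)).map M.subtype
    rw [derivedSeries_succ, map_commutator]
  have h2 := h (f n) (map_subtype_le _) h1
  refine ⟨⟨n, ?_⟩⟩
  exact (Subgroup.map_eq_bot_iff_of_injective _ M.subtype_injective).1 h2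

end

end Cfsg.Agent.H18.Carter
end

-- part: H18/Carter/Wreath
section
/-!
# Conjugacy of Carter subgroups: elimination of several components
-/

set_option autoImplicit false
set_option linter.unusedSectionVars false
set_option linter.unusedVariables false

namespace Cfsg.Agent.H18.Carter

open Subgroup Pointwise
open Cfsg.Agent.Solvable.Carter
open scoped commutatorElement

universe u

variable {G : Type u} [Group G]

theorem le_normalizer_of_normal_aux {N : Subgroup G} (hN : N.Normal) (K : Subgroup G) : K ≤ normalizer (N : Set G) := by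
  rw [normalizer_eq_top]; exact le_top

/-- `N_K(X) C_G(X)` -/
def Y (K X : Subgroup G) : Subgroup G := (K ⊓ normalizer (X : Set G)) ⊔ centralizer (X : Set G)

theorem cj_Y (g : G) (K X : Subgroup G) : MulAut.conj g • Y K X = Y (MulAut.conj g • K) (MulAut.conj g • X) := by
  unfold Y
  rw [Subgroup.smul_sup, Subgroup.smul_inf, cj_normalizer, cj_centralizer]

theorem cent_le_Y (K X : Subgroup G) : centralizer (X : Set G) ≤ Y K X := le_sup_right

theorem inf_le_Y (K X : Subgroup G) : K ⊓ normalizer (X : Set G) ≤ Y K X := le_sup_left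

theorem Y_le_norm (K X : Subgroup G) : Y K X ≤ normalizer (X : Set G) :=
  sup_le inf_le_right (centralizer_le_normalizer _)

theorem cent_norm (X : Subgroup G) : normalizer (X : Set G) ≤ normalizer (centralizer (X : Set G) : Set G) := by
  intro g hg
  rw [← cj_eq_self_iff, cj_centralizer, cj_eq_self_iff.2 hg]

/-- elements equal modulo `C_G(X)` act equally on subgroups containing `C_G(X)` -/
theorem cj_eq_of_mod {X Z : Subgroup G} (hZ : centralizer (X : Set G) ≤ Z) {x y : G} (h : x⁻¹ * y ∈ centralizer (X : Set G)) :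
    MulAut.conj x • Z = MulAut.conj y • Z := by
  have e : y = x * (x⁻¹ * y) := by group
  rw [e, ← cj_cj, cj_self (hZ h)]

/-- the configuration: `N` is the direct product of the nonabelian simple groups `T i`, permuted transitively by `G` -/
structure Cfg (G : Type u) [Group G] (m : ℕ) where
  N : Subgroup G
  T : Fin m → Subgroup G
  nN : N.Normal
  TN : ∀ i, T i ≤ N
  ne : ∀ i, T i ≠ ⊥
  nT : ∀ i, N ≤ normalizer (T i : Set G)
  comm : ∀ i j, i ≠ j → ∀ x ∈ T i, ∀ y ∈ T j, x * y = y * x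
  sup : ⨆ i, T i = N
  cen : centralizer (N : Set G) = ⊥
  zT : ∀ i, T i ⊓ centralizer (T i : Set G) = ⊥
  perm : ∀ (g : G) (i : Fin m), ∃ j, MulAut.conj g • T i = T j
  trans : ∀ i j, ∃ g : G, MulAut.conj g • T i = T j
  sol : Group.IsSolvable (G ⧸ N)

namespace Cfg

variable {m : ℕ} (c : Cfg G m)

theorem T_le_cent {i j : Fin m} (h : i ≠ j) : c.T j ≤ centralizer (c.T i : Set G) := by
  intro y hy x hx
  exact c.comm i j h x hx y hy

theorem N_le (i : Fin m) : c.N ≤ c.T i ⊔ centralizer (c.T i : Set G) := by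
  rw [← c.sup]
  refine iSup_le fun j => ?_
  by_cases h : i = j
  · rw [h]; exact le_sup_left
  · exact (c.T_le_cent h).trans le_sup_right

theorem eq_one {n : G} (hn : ∀ i, n ∈ centralizer (c.T i : Set G)) : n = 1 := by
  have h1 : n ∈ centralizer (c.N : Set G) := by
    have h2 : c.N ≤ centralizer ({n} : Set G) := by
      rw [← c.sup]
      refine iSup_le fun i x hx => ?_
      rw [mem_centralizer_singleton_iff]
      exact (hn i x hx)
    intro x hx
    have := h2 hx
    rw [mem_centralizer_singleton_iff] at this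
    exact this
  rw [c.cen, mem_bot] at h1
  exact h1

/-- elements of `N` with prescribed components -/
theorem spread (t : Fin m → G) (ht : ∀ i, t i ∈ c.T i) :
    ∃ n ∈ c.N, ∀ i, (t i)⁻¹ * n ∈ centralizer (c.T i : Set G) := by
  classical
  have key : ∀ s : Finset (Fin m), ∃ n ∈ c.N, (∀ i ∈ s, (t i)⁻¹ * n ∈ centralizer (c.T i : Set G)) ∧
      ∀ i ∉ s, n ∈ centralizer (c.T i : Set G) := by
    intro s
    induction s using Finset.induction_on with
    | empty => exact ⟨1, one_mem _, fun i hi => absurd hi (Finset.notMem_empty i), fun i _ => one_mem _⟩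
    | insert j s hj ih =>
      obtain ⟨n, hn, h1, h2⟩ := ih
      refine ⟨t j * n, mul_mem (c.TN j (ht j)) hn, ?_, ?_⟩
      · intro i hi
        by_cases hij : i = j
        · subst hij
          rw [inv_mul_cancel_left]
          exact h2 i hj
        · have his : i ∈ s := (Finset.mem_insert.1 hi).resolve_left hij
          have h3 : t j ∈ centralizer (c.T i : Set G) := c.T_le_cent hij (ht j)
          have h4 : t i * t j = t j * t i := c.comm i j hij _ (ht i) _ (ht j)
          have h5 : (t i)⁻¹ * (t j * n) = t j * ((t i)⁻¹ * n) := by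
            have : (t i)⁻¹ * t j = t j * (t i)⁻¹ := by
              rw [inv_mul_eq_iff_eq_mul, ← mul_assoc, h4, mul_inv_cancel_right]
            rw [← mul_assoc, this, mul_assoc]
          rw [h5]
          exact mul_mem h3 (h1 i his)
      · intro i hi
        rw [Finset.mem_insert, not_or] at hi
        exact mul_mem (c.T_le_cent hi.1 (ht j)) (h2 i hi.2)
  obtain ⟨n, hn, h1, -⟩ := key Finset.univ
  exact ⟨n, hn, fun i => h1 i (Finset.mem_univ i)⟩

/-- the subgroup `Δ` -/
def Del (K : Subgroup G) : Subgroup G := c.N ⊓ ⨅ i, Y K (c.T i)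

theorem mem_Del {K : Subgroup G} {x : G} : x ∈ c.Del K ↔ x ∈ c.N ∧ ∀ i, x ∈ Y K (c.T i) := by
  rw [Del, mem_inf, mem_iInf]

theorem Del_norm (K : Subgroup G) : K ≤ normalizer (c.Del K : Set G) := by
  have h : ∀ k ∈ K, ∀ x ∈ c.Del K, k * x * k⁻¹ ∈ c.Del K := by
    intro k hk x hx
    rw [mem_Del] at hx ⊢
    refine ⟨c.nN.conj_mem x hx.1 k, fun j => ?_⟩
    obtain ⟨i, hi⟩ := c.perm k⁻¹ j
    have h1 : MulAut.conj k • c.T i = c.T j := by rw [← hi, cj_cj, mul_inv_cancel, cj_one]
    have h2 := cj_mem (g := k) (hx.2 i)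
    rwa [cj_Y, cj_self hk, h1] at h2
  intro k hk
  rw [mem_normalizer_iff]
  intro x
  refine ⟨h k hk x, fun hx => ?_⟩
  have := h k⁻¹ (inv_mem hk) _ hx
  have e : k⁻¹ * (k * x * k⁻¹) * k⁻¹⁻¹ = x := by group
  rwa [e] at this

theorem inf_le_Del (K : Subgroup G) : K ⊓ c.N ≤ c.Del K := by
  rintro x ⟨hx, hxN⟩
  exact (c.mem_Del).2 ⟨hxN, fun i => inf_le_Y _ _ ⟨hx, c.nT i hxN⟩⟩

theorem sup_Del {K : Subgroup G} {x : G} (hx : x ∈ K ⊔ c.Del K) (hxN : x ∈ c.N) : x ∈ c.Del K := by
  obtain ⟨k, hk, d, hd, rfl⟩ := mul_mem_of_norm' (c.Del_norm K) hx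
  have h1 : k ∈ c.N := by
    have := mul_mem hxN (inv_mem ((c.mem_Del).1 hd).1)
    rwa [mul_inv_cancel_right] at this
  exact mul_mem (c.inf_le_Del K ⟨hk, h1⟩) hd

/-- the solvability criterion -/
theorem solvable [Finite G] {K M : Subgroup G} (hK : Group.IsSolvable K) (hM : ∀ x ∈ M, x ∈ c.N → ∀ i, x ∈ Y K (c.T i)) :
    Group.IsSolvable M := by
  have := c.nN
  refine solvable_of_perfect fun P hPM hP => ?_
  have hPN : P ≤ c.N := by
    have h1 : ⁅P.map (QuotientGroup.mk' c.N), P.map (QuotientGroup.mk' c.N)⁆ = P.map (QuotientGroup.mk' c.N) := by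
      rw [← map_commutator, hP]
    have h2 : P.map (QuotientGroup.mk' c.N) ≤ ⊥ := by
      refine perfect_le h1 (K := ⊤) ?_ (by rw [normalizer_eq_top]) (by rw [sup_bot_eq]; exact le_top)
      have := c.sol
      infer_instance
    intro x hx
    have h3 := h2 (mem_map_of_mem _ hx)
    rw [mem_bot] at h3
    exact (QuotientGroup.eq_one_iff x).1 h3
  rw [eq_bot_iff]
  intro x hx
  rw [mem_bot]
  refine c.eq_one fun i => ?_
  have h1 : Group.IsSolvable ↥(K ⊓ normalizer (c.T i : Set G)) := by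
    exact Group.isSolvable_of_isSolvable_injective
      (f := inclusion (inf_le_left : K ⊓ normalizer (c.T i : Set G) ≤ K)) (inclusion_injective _)
  have h2 : P ≤ (K ⊓ normalizer (c.T i : Set G)) ⊔ centralizer (c.T i : Set G) := fun y hy => hM y (hPM hy) (hPN hy) i
  exact perfect_le hP h1 (inf_le_right.trans (cent_norm _)) h2 hx

/-- `K N = G` implies that `K` is transitive -/
theorem transK {K : Subgroup G} (hK : K ⊔ c.N = ⊤) (i j : Fin m) : ∃ k ∈ K, MulAut.conj k • c.T i = c.T j := by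
  have := c.nN
  obtain ⟨g, hg⟩ := c.trans i j
  have h1 : g ∈ K ⊔ c.N := by rw [hK]; trivial
  obtain ⟨k, hk, n, hn, rfl⟩ := mul_mem_of_norm' (le_normalizer_of_normal_aux c.nN K) h1
  refine ⟨k, hk, ?_⟩
  rw [← cj_cj, cj_eq_self_iff.2 (c.nT i hn)] at hg
  exact hg

end Cfg

end Cfsg.Agent.H18.Carter
end

-- part: H18/Carter/Key
section
/-!
# Conjugacy of Carter subgroups: the images in the automorphism groups of the components are Carter subgroups
-/

set_option autoImplicit false
set_option linter.unusedSectionVars false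
set_option linter.unusedVariables false

namespace Cfsg.Agent.H18.Carter

open Subgroup Pointwise
open Cfsg.Agent.Solvable.Carter
open scoped commutatorElement

universe u

variable {G : Type u} [Group G]

namespace Cfg

variable {m : ℕ} (c : Cfg G m)

theorem key [Finite G] {K : Subgroup G} (hK : IsCarter K) (hKN : K ⊔ c.N = ⊤) (i : Fin m) {s : G} (hs : s ∈ c.T i)
    (hsY : MulAut.conj s • Y K (c.T i) = Y K (c.T i)) : s ∈ Y K (c.T i) := by
  choose k hkK hkT using c.transK hKN i
  -- the element `n`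
  obtain ⟨n, hnN, hn⟩ := c.spread (fun j => k j * s * (k j)⁻¹) (fun j => by rw [← hkT j]; exact cj_mem hs)
  have hnorm : ∀ y ∈ Y K (c.T i), s * y * s⁻¹ ∈ Y K (c.T i) := by
    intro y hy
    have := cj_mem (g := s) hy
    rwa [hsY] at this
  -- `[κ, n] ∈ Δ`
  have hcl : ∀ κ ∈ K, κ * n * κ⁻¹ * n⁻¹ ∈ c.Del K := by
    intro κ hκ
    rw [c.mem_Del]
    refine ⟨mul_mem (c.nN.conj_mem n hnN κ) (inv_mem hnN), fun j => ?_⟩
    obtain ⟨i', hi'⟩ := c.perm κ⁻¹ j
    have hκi : MulAut.conj κ • c.T i' = c.T j := by rw [← hi', cj_cj, mul_inv_cancel, cj_one]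
    -- `κ' = k_j⁻¹ κ k_{i'}`
    set κ' := (k j)⁻¹ * κ * k i' with hκ'
    have hκ'K : κ' ∈ K := mul_mem (mul_mem (inv_mem (hkK j)) hκ) (hkK i')
    have hκ'T : κ' ∈ normalizer (c.T i : Set G) := by
      rw [← cj_eq_self_iff, hκ', ← cj_cj, ← cj_cj, hkT i', hκi, ← hkT j, cj_cj, inv_mul_cancel, cj_one]
    have hκ'Y : κ' ∈ Y K (c.T i) := inf_le_Y _ _ ⟨hκ'K, hκ'T⟩
    have h1 : κ' * (s * κ'⁻¹ * s⁻¹) ∈ Y K (c.T i) := mul_mem hκ'Y (hnorm _ (inv_mem hκ'Y))
    have h2 : k j * (κ' * (s * κ'⁻¹ * s⁻¹)) * (k j)⁻¹ ∈ Y K (c.T j) := by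
      have := cj_mem (g := k j) h1
      rwa [cj_Y, cj_self (hkK j), hkT j] at this
    -- centralising parts
    have h3 : κ * ((k i' * s * (k i')⁻¹)⁻¹ * n) * κ⁻¹ ∈ centralizer (c.T j : Set G) := by
      have := cj_mem (g := κ) (hn i')
      rwa [cj_centralizer, hκi] at this
    have h4 := hn j
    have hsj : k j * s * (k j)⁻¹ ∈ normalizer (centralizer (c.T j : Set G) : Set G) := by
      refine cent_norm _ (le_normalizer ?_)
      rw [← hkT j]; exact cj_mem hs
    have h5 : (k j * s * (k j)⁻¹) * ((κ * ((k i' * s * (k i')⁻¹)⁻¹ * n) * κ⁻¹) * ((k j * s * (k j)⁻¹)⁻¹ * n)⁻¹) *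
        (k j * s * (k j)⁻¹)⁻¹ ∈ centralizer (c.T j : Set G) :=
      (mem_normalizer_iff.1 hsj _).1 (mul_mem h3 (inv_mem h4))
    have e : κ * n * κ⁻¹ * n⁻¹ = (k j * (κ' * (s * κ'⁻¹ * s⁻¹)) * (k j)⁻¹) *
        ((k j * s * (k j)⁻¹) * ((κ * ((k i' * s * (k i')⁻¹)⁻¹ * n) * κ⁻¹) * ((k j * s * (k j)⁻¹)⁻¹ * n)⁻¹) *
        (k j * s * (k j)⁻¹)⁻¹) := by
      rw [hκ']; group
    rw [e]
    exact mul_mem h2 (cent_le_Y _ _ h5)
  -- `n ∈ M = K Δ`
  have hKs : Group.IsSolvable K := by
    have := hK.1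
    infer_instance
  have hM : Group.IsSolvable ↥(K ⊔ c.Del K) := c.solvable hKs fun x hx hxN j => ((c.mem_Del).1 (c.sup_Del hx hxN)).2 j
  have h1 : MulAut.conj n • K ≤ K ⊔ c.Del K := by
    intro x hx
    rw [mem_cj] at hx
    have h2 := hcl _ hx
    have e : x = ((n⁻¹ * x * n) * n * (n⁻¹ * x * n)⁻¹ * n⁻¹)⁻¹ * (n⁻¹ * x * n) := by group
    rw [e]
    exact mul_mem (mem_sup_right (inv_mem h2)) (mem_sup_left hx)
  obtain ⟨g, hg, hgK⟩ := exists_conj_of_le (CC.of_solvable hM) (hK.conj n) hK h1 le_sup_left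
  have h2 : g * n ∈ K := by
    rw [cj_cj, cj_eq_self_iff, hK.2] at hgK
    exact hgK
  have h3 : n ∈ K ⊔ c.Del K := by
    have := mul_mem (inv_mem hg) (mem_sup_left h2 : g * n ∈ K ⊔ c.Del K)
    rwa [inv_mul_cancel_left] at this
  have h4 : n ∈ Y K (c.T i) := ((c.mem_Del).1 (c.sup_Del h3 hnN)).2 i
  have h5 : k i * s * (k i)⁻¹ ∈ Y K (c.T i) := by
    have h6 := mul_mem h4 (inv_mem (cent_le_Y K _ (hn i)))
    have e : n * ((k i * s * (k i)⁻¹)⁻¹ * n)⁻¹ = k i * s * (k i)⁻¹ := by group
    rwa [e] at h6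
  have h6 : k i ∈ Y K (c.T i) := inf_le_Y _ _ ⟨hkK i, cj_eq_self_iff.1 (hkT i)⟩
  have h7 := mul_mem (mul_mem (inv_mem h6) h5) h6
  have e : (k i)⁻¹ * (k i * s * (k i)⁻¹) * k i = s := by group
  rwa [e] at h7

/-- `N_G(T_i) = T_i Y` -/
theorem norm_decomp {K : Subgroup G} (hKN : K ⊔ c.N = ⊤) (i : Fin m) {g : G} (hg : g ∈ normalizer (c.T i : Set G)) :
    ∃ s ∈ c.T i, ∃ y ∈ Y K (c.T i), g = s * y := by
  have hg' : g ∈ c.N ⊔ K := by rw [sup_comm, hKN]; trivial
  obtain ⟨n, hn, k, hk, rfl⟩ := mul_mem_of_norm (le_normalizer_of_normal_aux c.nN K) hg'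
  have hk' : k ∈ normalizer (c.T i : Set G) := by
    have := mul_mem (inv_mem (c.nT i hn)) hg
    rwa [inv_mul_cancel_left] at this
  obtain ⟨s, hs, z, hz, rfl⟩ := mul_mem_of_norm (centralizer_le_normalizer _) (c.N_le i hn)
  exact ⟨s, hs, z * k, mul_mem (cent_le_Y _ _ hz) (inf_le_Y _ _ ⟨hk, hk'⟩), by group⟩

theorem key' [Finite G] {K : Subgroup G} (hK : IsCarter K) (hKN : K ⊔ c.N = ⊤) (i : Fin m) {g : G}
    (hg : g ∈ normalizer (c.T i : Set G)) (hgY : MulAut.conj g • Y K (c.T i) = Y K (c.T i)) : g ∈ Y K (c.T i) := by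
  obtain ⟨s, hs, y, hy, rfl⟩ := c.norm_decomp hKN i hg
  rw [← cj_cj, cj_self hy] at hgY
  exact mul_mem (c.key hK hKN i hs hgY) hy

/-- the automorphism group induced on the component -/
abbrev A (i : Fin m) : Type u := ↥(normalizer (c.T i : Set G)) ⧸ (centralizer (c.T i : Set G)).subgroupOf (normalizer (c.T i : Set G))

instance (i : Fin m) : ((centralizer (c.T i : Set G)).subgroupOf (normalizer (c.T i : Set G))).Normal := inferInstance

/-- the projection -/
abbrev pr (i : Fin m) : ↥(normalizer (c.T i : Set G)) →* c.A i :=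
  QuotientGroup.mk' ((centralizer (c.T i : Set G)).subgroupOf (normalizer (c.T i : Set G)))

/-- the image of `K` -/
def im (K : Subgroup G) (i : Fin m) : Subgroup (c.A i) := (K.subgroupOf (normalizer (c.T i : Set G))).map (c.pr i)

theorem mem_im {K : Subgroup G} {i : Fin m} {x : ↥(normalizer (c.T i : Set G))} :
    c.pr i x ∈ c.im K i ↔ (x : G) ∈ Y K (c.T i) := by
  constructor
  · rintro ⟨k, hk, e⟩
    have h1 : k⁻¹ * x ∈ (centralizer (c.T i : Set G)).subgroupOf (normalizer (c.T i : Set G)) := QuotientGroup.eq.1 e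
    have h2 : (k : G)⁻¹ * x ∈ centralizer (c.T i : Set G) := h1
    have h3 : (k : G) * ((k : G)⁻¹ * x) ∈ Y K (c.T i) := mul_mem (inf_le_Y K (c.T i) ⟨hk, k.2⟩) (cent_le_Y K _ h2)
    rwa [mul_inv_cancel_left] at h3
  · intro hx
    obtain ⟨k, hk, z, hz, e⟩ := mul_mem_of_norm' (inf_le_right.trans (cent_norm _)) hx
    refine ⟨⟨k, hk.2⟩, hk.1, ?_⟩
    refine QuotientGroup.eq.2 ?_
    show k⁻¹ * (x : G) ∈ centralizer (c.T i : Set G)
    rw [e, inv_mul_cancel_left]
    exact hz

theorem carter_im [Finite G] {K : Subgroup G} (hK : IsCarter K) (hKN : K ⊔ c.N = ⊤) (i : Fin m) : IsCarter (c.im K i) := by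
  have hnil := hK.1
  have h0 : Group.IsNilpotent ↥(K.subgroupOf (normalizer (c.T i : Set G))) := by
    have : Group.IsNilpotent ↥(K ⊓ normalizer (c.T i : Set G)) :=
      Group.nilpotent_of_mulEquiv (subgroupOfEquivOfLe (inf_le_left : K ⊓ normalizer (c.T i : Set G) ≤ K))
    rw [← inf_subgroupOf_right]
    exact Group.nilpotent_of_mulEquiv (subgroupOfEquivOfLe inf_le_right).symm
  refine ⟨Group.nilpotent_of_surjective ((c.pr i).subgroupMap _) ((c.pr i).subgroupMap_surjective _), ?_⟩
  refine le_antisymm ?_ le_normalizer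
  intro a ha
  obtain ⟨g, rfl⟩ := QuotientGroup.mk'_surjective _ a
  rw [c.mem_im]
  refine c.key' hK hKN i g.2 ?_
  have h1 : ∀ y ∈ Y K (c.T i), (g : G) * y * (g : G)⁻¹ ∈ Y K (c.T i) := by
    intro y hy
    have hyn : y ∈ normalizer (c.T i : Set G) := Y_le_norm _ _ hy
    have h2 : c.pr i ⟨y, hyn⟩ ∈ c.im K i := c.mem_im.2 hy
    have h3 := (mem_normalizer_iff.1 ha _).1 h2
    have h4 : c.pr i (g * ⟨y, hyn⟩ * g⁻¹) ∈ c.im K i := by rw [map_mul, map_mul, map_inv]; exact h3
    exact c.mem_im.1 h4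
  have hle : MulAut.conj (g : G) • Y K (c.T i) ≤ Y K (c.T i) := by
    intro x hx
    have := h1 _ (mem_cj.1 hx)
    have e : (g : G) * ((g : G)⁻¹ * x * g) * (g : G)⁻¹ = x := by group
    rwa [e] at this
  refine eq_of_le_of_card_ge hle ?_
  rw [conj_smul_eq_map, Nat.card_congr ((Y K (c.T i)).equivMapOfInjective _ (MulAut.conj (g : G)).injective).symm.toEquiv]

end Cfg

end Cfsg.Agent.H18.Carter
end

-- part: H18/Carter/Red
section
/-!
# Conjugacy of Carter subgroups: reduction to almost simple groups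
-/

set_option autoImplicit false
set_option linter.unusedSectionVars false
set_option linter.unusedVariables false

namespace Cfsg.Agent.H18.Carter

open Subgroup Pointwise
open Cfsg.Agent.Solvable.Carter
open scoped commutatorElement

universe u

variable {G : Type u} [Group G]

namespace Cfg

variable {m : ℕ} (c : Cfg G m)

theorem conj_of [Finite G] (hmin : ∀ i, CC (c.A i)) {C D : Subgroup G} (hC : IsCarter C) (hD : IsCarter D)
    (hCN : C ⊔ c.N = ⊤) (hDN : D ⊔ c.N = ⊤) : ∃ g : G, MulAut.conj g • C = D := by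
  have hs : ∀ i, ∃ s ∈ c.T i, MulAut.conj s • Y C (c.T i) = Y D (c.T i) := by
    intro i
    obtain ⟨a, ha⟩ := hmin i (c.im C i) (c.im D i) (c.carter_im hC hCN i) (c.carter_im hD hDN i)
    obtain ⟨g, rfl⟩ := QuotientGroup.mk'_surjective _ a
    obtain ⟨s, hs, y, hy, e⟩ := c.norm_decomp hCN i g.2
    refine ⟨s, hs, ?_⟩
    have h1 : MulAut.conj s • Y C (c.T i) = MulAut.conj (g : G) • Y C (c.T i) := by
      rw [e, ← cj_cj, cj_self hy]
    rw [h1]
    ext x
    have h2 : ∀ hx : x ∈ normalizer (c.T i : Set G), x ∈ MulAut.conj (g : G) • Y C (c.T i) ↔ x ∈ Y D (c.T i) := by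
      intro hx
      have h3 : x ∈ Y D (c.T i) ↔ c.pr i ⟨x, hx⟩ ∈ c.im D i := (c.mem_im (x := ⟨x, hx⟩)).symm
      have h4 : x ∈ MulAut.conj (g : G) • Y C (c.T i) ↔ c.pr i (g⁻¹ * ⟨x, hx⟩ * g) ∈ c.im C i := by
        rw [mem_cj, c.mem_im]; rfl
      rw [h3, h4, ← ha, mem_cj, map_mul, map_mul, map_inv]
    by_cases hx : x ∈ normalizer (c.T i : Set G)
    · exact h2 hx
    · constructor
      · intro h3
        exfalso
        apply hx
        have h4 := mul_mem (mul_mem g.2 (Y_le_norm _ _ (mem_cj.1 h3))) (inv_mem g.2)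
        have e : (g : G) * ((g : G)⁻¹ * x * g) * (g : G)⁻¹ = x := by group
        rwa [e] at h4
      · intro h3
        exact absurd (Y_le_norm _ _ h3) hx
  choose s hsT hsY using hs
  obtain ⟨n, hnN, hn⟩ := c.spread s hsT
  have hC' := hC.conj n
  have hY : ∀ i, Y (MulAut.conj n • C) (c.T i) = Y D (c.T i) := by
    intro i
    have h1 : MulAut.conj n • c.T i = c.T i := cj_eq_self_iff.2 (c.nT i hnN)
    calc Y (MulAut.conj n • C) (c.T i) = Y (MulAut.conj n • C) (MulAut.conj n • c.T i) := by rw [h1]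
      _ = MulAut.conj n • Y C (c.T i) := (cj_Y _ _ _).symm
      _ = MulAut.conj (s i) • Y C (c.T i) := (cj_eq_of_mod (cent_le_Y _ _) (hn i)).symm
      _ = Y D (c.T i) := hsY i
  let M : Subgroup G :=
    { carrier := {g | ∀ i, MulAut.conj g • Y D (c.T i) = Y D (MulAut.conj g • c.T i)}
      one_mem' := fun i => by rw [cj_one, cj_one]
      mul_mem' := by
        intro a b ha hb i
        obtain ⟨j, hj⟩ := c.perm b i
        rw [← cj_cj, ← cj_cj, hb i, hj, ha j]
      inv_mem' := by
        intro a ha i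
        obtain ⟨j, hj⟩ := c.perm a⁻¹ i
        have h1 : MulAut.conj a • c.T j = c.T i := by rw [← hj, cj_cj, mul_inv_cancel, cj_one]
        have h2 := ha j
        rw [h1] at h2
        rw [hj, ← h2, cj_cj, inv_mul_cancel, cj_one] }
  have hDM : D ≤ M := by
    intro g hg i
    rw [cj_Y, cj_self hg]
  have hCM : MulAut.conj n • C ≤ M := by
    intro g hg i
    obtain ⟨j, hj⟩ := c.perm g i
    rw [← hY i, cj_Y, cj_self hg, hj, hY j]
  have hDs : Group.IsSolvable D := by
    have := hD.1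
    infer_instance
  have hMs : Group.IsSolvable M := c.solvable hDs fun x hx hxN i => by
    refine c.key' hD hDN i (c.nT i hxN) ?_
    rw [hx i, cj_eq_self_iff.2 (c.nT i hxN)]
  obtain ⟨g, -, hg⟩ := exists_conj_of_le (CC.of_solvable hMs) hC' hD hCM hDM
  exact ⟨g * n, by rw [← cj_cj]; exact hg⟩

theorem card_A [Finite G] {i j : Fin m} (hij : i ≠ j) : Nat.card (c.A i) < Nat.card G := by
  have h1 : Nat.card (c.A i) < Nat.card ↥(normalizer (c.T i : Set G)) := by
    refine Cfsg.Agent.Lib.SolvableNormalP.card_quotient_lt ?_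
    intro h
    apply c.ne j
    rw [eq_bot_iff]
    intro x hx
    have hx2 : x ∈ centralizer (c.T i : Set G) := c.T_le_cent hij hx
    have h2 : (⟨x, centralizer_le_normalizer _ hx2⟩ : ↥(normalizer (c.T i : Set G))) ∈
        (centralizer (c.T i : Set G)).subgroupOf (normalizer (c.T i : Set G)) := hx2
    rw [h, mem_bot] at h2
    rw [mem_bot]
    exact congrArg Subtype.val h2
  exact h1.trans_le (Subgroup.card_le_card_group _)

end Cfg

theorem comm_le {A B : Subgroup G} (h : A ≤ normalizer (B : Set G)) : ⁅A, B⁆ ≤ B := by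
  rw [commutator_le]
  intro a ha b hb
  rw [commutatorElement_def]
  exact mul_mem ((mem_normalizer_iff.1 (h ha) b).1 hb) (inv_mem hb)

/-- a minimal normal subgroup gives a configuration -/
theorem exists_cfg [Finite G] (N : Subgroup G) [hN : N.Normal] (hN1 : N ≠ ⊥)
    (hmin : ∀ M : Subgroup G, M.Normal → M ≤ N → M = ⊥ ∨ M = N) (hcen : centralizer (N : Set G) = ⊥)
    (hsol : Group.IsSolvable (G ⧸ N)) :
    ∃ (m : ℕ) (c : Cfg G m), 0 < m ∧ c.N = N ∧ (∀ i, IsSimpleGroup (c.T i)) ∧
      ∀ i, ¬ ∀ a b : c.T i, a * b = b * a := by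
  obtain ⟨m, T, hm, hTN, hsimple, hNT, hconj, hcomm, hinj, -, hsup⟩ :=
    Cfsg.Agent.Lib.MinNormal.exists_internal_decomposition N hN1 hmin
  have hne : ∀ i, T i ≠ ⊥ := fun i h => by
    have h1 := (hsimple i).toNontrivial
    rw [← Subgroup.nontrivial_iff_ne_bot] at *
    exact absurd h ((Subgroup.nontrivial_iff_ne_bot _).1 h1)
  have hz : ∀ i, T i ⊓ centralizer (T i : Set G) = ⊥ := by
    intro i
    rw [eq_bot_iff, ← hcen]
    rintro x ⟨hx, hxc⟩
    have h2 : N ≤ centralizer ({x} : Set G) := by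
      rw [← hsup]
      refine iSup_le fun j y hy => ?_
      rw [mem_centralizer_singleton_iff]
      by_cases hij : i = j
      · subst hij; exact hxc y hy
      · exact ((hcomm i j hij x hx y hy).eq).symm
    intro y hy
    have := h2 hy
    rw [mem_centralizer_singleton_iff] at this
    exact this
  have hperm : ∀ (g : G) (i : Fin m), ∃ j, MulAut.conj g • T i = T j := by
    intro g i
    by_contra hcon
    push Not at hcon
    set X := MulAut.conj g • T i with hX
    have hXN : X ≤ N := by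
      rw [← cj_normal g hN, hX]
      exact Subgroup.pointwise_smul_le_pointwise_smul_iff.2 (hTN i)
    have hNX : N ≤ normalizer (X : Set G) := by
      rw [← cj_normal g hN, hX, ← cj_normalizer]
      exact Subgroup.pointwise_smul_le_pointwise_smul_iff.2 (hNT i)
    have hXs : IsSimpleGroup X := by
      have e : T i ≃* X := (T i).equivMapOfInjective (MulAut.conj g).toMonoidHom (MulAut.conj g).injective
      have := hsimple i
      have : Nontrivial X := e.symm.toEquiv.nontrivial
      exact IsSimpleGroup.isSimpleGroup_of_surjective (H := X) e.toMonoidHom e.surjective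
    have hdis : ∀ j, X ⊓ T j = ⊥ := by
      intro j
      by_contra hne'
      apply hcon j
      have key : ∀ A B : Subgroup G, IsSimpleGroup A → A ≤ N → N ≤ normalizer (B : Set G) → A ⊓ B ≠ ⊥ → A ≤ B := by
        intro A B hA hAN hNB hAB
        have h1 : ((A ⊓ B).subgroupOf A).Normal := by
          rw [inf_subgroupOf_left]
          exact normal_subgroupOf_of_le_normalizer (hAN.trans hNB)
        rcases hA.eq_bot_or_eq_top_of_normal _ h1 with h | h
        · exact absurd ((subgroupOf_eq_bot.1 h).eq_bot_of_le inf_le_left) hAB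
        · exact (subgroupOf_eq_top.1 h).trans inf_le_right
      refine le_antisymm (key _ _ hXs hXN (hNT j) hne') (key _ _ (hsimple j) (hTN j) hNX ?_)
      rwa [inf_comm]
    have h1 : X ≤ centralizer (N : Set G) := by
      have h2 : N ≤ centralizer (X : Set G) := by
        rw [← hsup]
        refine iSup_le fun j => ?_
        rw [← Subgroup.commutator_eq_bot_iff_le_centralizer, eq_bot_iff, ← hdis j]
        refine le_inf ?_ ?_
        · exact comm_le ((hTN j).trans hNX)
        · rw [Subgroup.commutator_comm]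
          exact comm_le (hXN.trans (hNT j))
      exact Subgroup.le_centralizer_iff.1 h2
    rw [hcen, le_bot_iff] at h1
    have h2 := (Subgroup.nontrivial_iff_ne_bot _).1 hXs.toNontrivial
    exact h2 h1
  refine ⟨m, ⟨N, T, hN, hTN, hne, hNT, fun i j hij x hx y hy => hcomm i j hij x hx y hy, hsup, hcen, hz, hperm, ?_, hsol⟩, hm, rfl,
    hsimple, ?_⟩
  · intro i j
    obtain ⟨g, hg⟩ := hconj i j
    exact ⟨g, hg.symm⟩
  · intro i h
    apply hne i
    rw [eq_bot_iff, ← hz i]
    intro x hx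
    exact ⟨hx, fun y hy => congrArg Subtype.val (h ⟨y, hy⟩ ⟨x, hx⟩)⟩

/-- **reduction to almost simple groups** -/
theorem reduction
    (row : ∀ (G : Type u) [Group G] [Finite G] (S : Subgroup G) [S.Normal], IsSimpleGroup S → (¬ ∀ a b : S, a * b = b * a) →
      centralizer (S : Set G) = ⊥ → Group.IsNilpotent (G ⧸ S) → (∀ C : Subgroup G, IsCarter C → C ⊔ S = ⊤) →
      (∀ (B : Type u) [Group B] [Finite B], Nat.card B < Nat.card G → CC B) → CC G) :
    ∀ (G : Type u) [Group G] [Finite G], CC G := by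
  refine Cfsg.Agent.Lib.SolvableNormalP.card_strong_induction (motive := fun G _ _ => CC G) ?_
  intro G _ _ IH
  by_contra hCC
  have hCC' := hCC
  unfold CC at hCC'
  push Not at hCC'
  obtain ⟨C₀, D₀, hC₀, hD₀, hnc⟩ := hCC'
  have hnsol : ¬ Group.IsSolvable G := fun h => hCC (CC.of_solvable h)
  have hnt : Nontrivial G := by
    by_contra h
    rw [not_nontrivial_iff_subsingleton] at h
    exact hnsol inferInstance
  have IHsub : ∀ H : Subgroup G, H ≠ ⊤ → CC H := fun H hH => IH H (Cfsg.Agent.Lib.SolvableNormalP.card_lt_of_ne_top hH)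
  -- products with normal subgroups
  have hprod : ∀ N : Subgroup G, N.Normal → N ≠ ⊥ → ∀ C : Subgroup G, IsCarter C → C ⊔ N = ⊤ := by
    intro N hN hNb
    have hq : CC (G ⧸ N) := IH _ (Cfsg.Agent.Lib.SolvableNormalP.card_quotient_lt hNb)
    have hsurj := QuotientGroup.mk'_surjective N
    have step : ∀ C D : Subgroup G, IsCarter C → IsCarter D → D ⊔ N ≠ ⊤ → ∃ g : G, MulAut.conj g • C = D := by
      intro C D hC hD hne
      obtain ⟨a, ha⟩ := hq _ _ (hC.map hsurj fun H hH => IHsub H hH) (hD.map hsurj fun H hH => IHsub H hH)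
      obtain ⟨g, rfl⟩ := hsurj a
      have h1 : MulAut.conj g • C ≤ D ⊔ N := by
        intro x hx
        have h2 : QuotientGroup.mk' N x ∈ D.map (QuotientGroup.mk' N) := by
          rw [← ha, mem_cj, ← map_inv, ← map_mul, ← map_mul]
          exact mem_map_of_mem _ (mem_cj.1 hx)
        obtain ⟨d, hd, e⟩ := h2
        have h3 : d⁻¹ * x ∈ N := QuotientGroup.eq.1 e
        have := mul_mem (mem_sup_left hd : d ∈ D ⊔ N) (mem_sup_right h3 : d⁻¹ * x ∈ D ⊔ N)
        rwa [mul_inv_cancel_left] at this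
      obtain ⟨h, -, hh⟩ := exists_conj_of_le (IHsub _ hne) (hC.conj g) hD h1 le_sup_left
      exact ⟨h * g, by rw [← cj_cj]; exact hh⟩
    intro C hC
    by_contra hne
    obtain ⟨g, hg⟩ := step C₀ C hC₀ hC hne
    obtain ⟨h, hh⟩ := step D₀ C hD₀ hC hne
    apply hnc (h⁻¹ * g)
    rw [← cj_cj, hg, ← hh, cj_cj, inv_mul_cancel, cj_one]
  have hquot : ∀ N : Subgroup G, ∀ hN : N.Normal, N ≠ ⊥ → Group.IsNilpotent (G ⧸ N) := by
    intro N hN hNb
    have h1 := hprod N hN hNb C₀ hC₀
    have h2 := hC₀.1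
    have h3 : (C₀.map (QuotientGroup.mk' N)) = ⊤ := by
      have h4 : (C₀ ⊔ N).map (QuotientGroup.mk' N) = ⊤ := by
        rw [h1, map_top_of_surjective _ (QuotientGroup.mk'_surjective N)]
      rw [Subgroup.map_sup] at h4
      have h5 : N.map (QuotientGroup.mk' N) = ⊥ := by
        rw [Subgroup.map_eq_bot_iff, QuotientGroup.ker_mk']
      rwa [h5, sup_bot_eq] at h4
    have h4 : Function.Surjective ((QuotientGroup.mk' N).comp C₀.subtype) := by
      intro y
      have : y ∈ C₀.map (QuotientGroup.mk' N) := by rw [h3]; trivial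
      obtain ⟨x, hx, rfl⟩ := this
      exact ⟨⟨x, hx⟩, rfl⟩
    exact Group.nilpotent_of_surjective _ h4
  -- a minimal normal subgroup
  obtain ⟨N, hNb, hNle, hNmin⟩ : ∃ N : Subgroup G, N ≠ ⊥ ∧ N.Normal ∧ ∀ M : Subgroup G, M.Normal → M ≤ N → M = ⊥ ∨ M = N := by
    classical
    obtain ⟨N, ⟨hN1, hN2⟩, hmin⟩ := (Set.toFinite {N : Subgroup G | N.Normal ∧ N ≠ ⊥}).exists_minimal
      ⟨⊤, inferInstance, top_ne_bot⟩
    refine ⟨N, hN2, hN1, fun M hM hle => ?_⟩
    by_cases hMb : M = ⊥
    · exact Or.inl hMb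
    · exact Or.inr (le_antisymm hle (hmin ⟨hM, hMb⟩ hle))
  have hNn : N.Normal := hNle
  have hqN := hquot N hNn hNb
  have hna : ¬ ∀ a ∈ N, ∀ b ∈ N, a * b = b * a := by
    intro h
    apply hnsol
    rw [Group.isSolvable_iff_subgroup_quotient N]
    refine ⟨Group.isSolvable_of_comm fun a b => Subtype.ext (h a a.2 b b.2), ?_⟩
    infer_instance
  have hcenN : N ⊓ centralizer (N : Set G) = ⊥ := by
    have h1 : (N ⊓ centralizer (N : Set G)).Normal := inferInstance
    refine (hNmin _ h1 inf_le_left).resolve_right fun h => hna ?_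
    intro a ha b hb
    rw [← h] at ha
    exact (ha.2 b hb).symm
  have hcen : centralizer (N : Set G) = ⊥ := by
    by_contra hcb
    have h1 : Group.IsNilpotent (G ⧸ centralizer (N : Set G)) := hquot _ inferInstance hcb
    -- `N` embeds
    have hinj : Function.Injective ((QuotientGroup.mk' (centralizer (N : Set G))).comp N.subtype) := by
      rw [injective_iff_map_eq_one]
      intro x hx
      have h2 : (x : G) ∈ centralizer (N : Set G) := (QuotientGroup.eq_one_iff _).1 hx
      have h3 : (x : G) ∈ N ⊓ centralizer (N : Set G) := ⟨x.2, h2⟩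
      rw [hcenN, mem_bot] at h3
      exact Subtype.ext h3
    have hNnil : Group.IsNilpotent N := by
      have e := MonoidHom.ofInjective hinj
      exact Group.nilpotent_of_mulEquiv e.symm
    apply hnsol
    rw [Group.isSolvable_iff_subgroup_quotient N]
    exact ⟨inferInstance, inferInstance⟩
  obtain ⟨m, c, hm, hcN, hsimple, hnab⟩ := exists_cfg N hNb hNmin hcen inferInstance
  by_cases hm1 : m = 1
  · -- almost simple
    subst hm1
    have hTN : c.T 0 = N := by
      rw [← hcN, ← c.sup]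
      refine le_antisymm (le_iSup c.T 0) (iSup_le fun i => ?_)
      rw [Subsingleton.elim i 0]
    have hs := hsimple 0
    have hn := hnab 0
    rw [hTN] at hs hn
    exact hCC (row G N hs hn hcen hqN (fun C hC => hprod N hNn hNb C hC) fun B _ _ hB => IH B hB)
  · refine hCC fun C D hC hD => c.conj_of (fun i => ?_) hC hD (by rw [hcN]; exact hprod N hNn hNb C hC)
      (by rw [hcN]; exact hprod N hNn hNb D hD)
    obtain ⟨j, hj⟩ : ∃ j : Fin m, i ≠ j := by
      have : Nontrivial (Fin m) := Fin.nontrivial_iff_two_le.2 (by omega)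
      obtain ⟨j, hj⟩ := exists_ne i
      exact ⟨j, hj.symm⟩
    exact IH _ (c.card_A hj)

end Cfsg.Agent.H18.Carter
end

-- part: H18/Carter/Ctx
section
/-!
# Conjugacy of Carter subgroups: the almost simple minimal counterexample
-/

set_option autoImplicit false
set_option linter.unusedSectionVars false
set_option linter.unusedVariables false

namespace Cfsg.Agent.H18.Carter

open Subgroup Pointwise
open Cfsg.Agent.Solvable.Carter
open scoped commutatorElement

universe u

/-- the almost simple group in which Carter subgroups are to be conjugate -/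
structure Ctx (G : Type u) [Group G] (S : Subgroup G) [S.Normal] : Prop where
  simple : IsSimpleGroup S
  na : ¬ ∀ a b : S, a * b = b * a
  cen : centralizer (S : Set G) = ⊥
  nil : Group.IsNilpotent (G ⧸ S)
  prod : ∀ C : Subgroup G, IsCarter C → C ⊔ S = ⊤
  min : ∀ (B : Type u) [Group B] [Finite B], Nat.card B < Nat.card G → CC B

/-- the reduction, with `Ctx` -/
theorem reduction' (row : ∀ (G : Type u) [Group G] [Finite G] (S : Subgroup G) [S.Normal], Ctx G S → CC G) :
    ∀ (G : Type u) [Group G] [Finite G], CC G :=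
  reduction fun G _ _ S _ h1 h2 h3 h4 h5 h6 => row G S ⟨h1, h2, h3, h4, h5, h6⟩

/-- the form of S3852 -/
theorem s3852_of (row : ∀ (G : Type u) [Group G] [Finite G] (S : Subgroup G) [S.Normal], Ctx G S → CC G)
    {G : Type u} [Group G] [Finite G] (H K : Subgroup G) (hH : Cfsg.IsCarterSubgroup H) (hK : Cfsg.IsCarterSubgroup K) :
    ∃ g : G, K = H.map (MulAut.conj g).toMonoidHom := by
  obtain ⟨g, hg⟩ := reduction' row G H K hH hK
  exact ⟨g, hg.symm⟩

namespace Ctx

variable {G : Type u} [Group G] [Finite G] {S : Subgroup G} [S.Normal] (c : Ctx G S)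
include c

theorem sub {M : Subgroup G} (hM : M ≠ ⊤) : CC M := c.min M (Cfsg.Agent.Lib.SolvableNormalP.card_lt_of_ne_top hM)

/-- Carter subgroups lying in a proper subgroup are conjugate in it -/
theorem conj_of_le {M K H : Subgroup G} (hM : M ≠ ⊤) (hK : IsCarter K) (hH : IsCarter H) (hKM : K ≤ M) (hHM : H ≤ M) :
    ∃ g ∈ M, MulAut.conj g • K = H := exists_conj_of_le (c.sub hM) hK hH hKM hHM

/-- a normal subgroup is trivial or contains `S` -/
theorem le_of_normal {X : Subgroup G} (hX : X.Normal) (hne : X ≠ ⊥) : S ≤ X := by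
  have h1 : ((X ⊓ S).subgroupOf S).Normal := by
    have : (X ⊓ S).Normal := inferInstance
    infer_instance
  rcases c.simple.eq_bot_or_eq_top_of_normal _ h1 with h | h
  · exfalso
    apply hne
    have h2 : X ⊓ S = ⊥ := (subgroupOf_eq_bot.1 h).eq_bot_of_le inf_le_right
    rw [eq_bot_iff, ← c.cen]
    rw [← Subgroup.commutator_eq_bot_iff_le_centralizer, eq_bot_iff, ← h2]
    exact Subgroup.commutator_le_inf X S
  · exact (subgroupOf_eq_top.1 h).trans inf_le_left

theorem S_not_solvable : ¬ Group.IsSolvable S := by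
  intro h
  apply c.na
  have h1 := c.simple
  have h2 := c.simple.toNontrivial
  have h3 : _root_.commutator S = ⊥ := by
    rcases c.simple.eq_bot_or_eq_top_of_normal (_root_.commutator S) inferInstance with h4 | h4
    · exact h4
    · have := Group.IsSolvable.commutator_lt_top_of_nontrivial S
      rw [h4] at this
      exact absurd this (lt_irrefl _)
  intro a b
  have h4 : ⁅a, b⁆ ∈ _root_.commutator S := commutator_mem_commutator (mem_top a) (mem_top b)
  rw [h3, mem_bot, commutatorElement_eq_one_iff_mul_comm] at h4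
  exact h4

theorem norm_ne_top {X : Subgroup G} (hne : X ≠ ⊥) (hX : Group.IsSolvable X) : normalizer (X : Set G) ≠ ⊤ := by
  intro h
  apply c.S_not_solvable
  have h1 := c.le_of_normal (normalizer_eq_top_iff.1 h) hne
  exact Group.isSolvable_of_isSolvable_injective (f := inclusion h1) (inclusion_injective _)

theorem cent_ne_top {z : G} (hz : z ≠ 1) : centralizer ({z} : Set G) ≠ ⊤ := by
  intro h
  apply hz
  have h1 : z ∈ centralizer (S : Set G) := by
    intro s _
    have : s ∈ centralizer ({z} : Set G) := by rw [h]; trivial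
    exact mem_centralizer_singleton_iff.1 this
  rw [c.cen, mem_bot] at h1
  exact h1

/-- **(A1)** distinct elements of the centre of `K` are not conjugate -/
theorem eq_of_conj {K : Subgroup G} (hK : IsCarter K) {z : G} (hzK : K ≤ centralizer ({z} : Set G)) {g : G}
    (h : K ≤ centralizer ({g * z * g⁻¹} : Set G)) : g * z * g⁻¹ = z := by
  by_cases hz : z = 1
  · rw [hz]; group
  have h1 : MulAut.conj g⁻¹ • K ≤ centralizer ({z} : Set G) := by
    intro x hx
    rw [mem_cj, inv_inv] at hx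
    have h2 := h hx
    rw [mem_centralizer_singleton_iff] at h2 ⊢
    have h3 : g * (x * z) * g⁻¹ = g * (z * x) * g⁻¹ := by
      calc g * (x * z) * g⁻¹ = (g * x * g⁻¹) * (g * z * g⁻¹) := by group
        _ = (g * z * g⁻¹) * (g * x * g⁻¹) := h2
        _ = _ := by group
    exact mul_left_cancel (mul_right_cancel h3)
  obtain ⟨y, hy, hh⟩ := c.conj_of_le (c.cent_ne_top hz) (hK.conj g⁻¹) hK h1 hzK
  rw [cj_cj, cj_eq_self_iff, hK.2] at hh
  have h3 : g ∈ centralizer ({z} : Set G) := by
    have h4 := mul_mem (inv_mem (hzK hh)) hy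
    have e : (y * g⁻¹)⁻¹ * y = g := by group
    rwa [e] at h4
  rw [mem_centralizer_singleton_iff.1 h3, mul_inv_cancel_right]

/-- if a conjugate of a nontrivial element centralised by `K` is centralised by `H` then `K` and `H` are conjugate -/
theorem conj_of_cent {K H : Subgroup G} (hK : IsCarter K) (hH : IsCarter H) {z : G} (hz : z ≠ 1)
    (hzK : K ≤ centralizer ({z} : Set G)) {g : G} (h : H ≤ centralizer ({g * z * g⁻¹} : Set G)) :
    ∃ h : G, MulAut.conj h • K = H := by
  have h1 : MulAut.conj g⁻¹ • H ≤ centralizer ({z} : Set G) := by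
    intro x hx
    rw [mem_cj, inv_inv] at hx
    have h2 := h hx
    rw [mem_centralizer_singleton_iff] at h2 ⊢
    have h3 : g * (x * z) * g⁻¹ = g * (z * x) * g⁻¹ := by
      calc g * (x * z) * g⁻¹ = (g * x * g⁻¹) * (g * z * g⁻¹) := by group
        _ = (g * z * g⁻¹) * (g * x * g⁻¹) := h2
        _ = _ := by group
    exact mul_left_cancel (mul_right_cancel h3)
  obtain ⟨y, -, hh⟩ := c.conj_of_le (c.cent_ne_top hz) hK (hH.conj g⁻¹) hzK h1
  exact ⟨g * y, by rw [← cj_cj, hh, cj_cj, mul_inv_cancel, cj_one]⟩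

end Ctx

end Cfsg.Agent.H18.Carter
end

private theorem dce_2d6038ea568b : _root_.True := by
  try have : _root_.True := by simp only [_root_.Cfsg.Agent.H18.Carter.Cfg.Del.eq_1]
  exact _root_.True.intro
end

-- part: H381/Car/Conj
section
set_option linter.all false
open scoped Cfsg.Agent.FastGrp

-- part: H381/Car/SolvSyl
section
/-!
# A Carter complement normalises Sylow subgroups (helper381, for S3852)

`Y` finite solvable, `N` normal, `K` a Carter subgroup of `Y` with `K ⊓ N = ⊥`, `K ⊔ N = ⊤`: then `K` is a system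
normalizer, so it normalises a Sylow `ℓ`-subgroup of `Y` (hence of `N`) for every prime `ℓ`.
-/

set_option autoImplicit false

namespace Cfsg.Agent.H381.Car

open Subgroup Pointwise Cfsg.Agent.Solvable.Carter
open Cfsg.Agent.SolvableStructure

universe u

/-- `K` is a system normalizer. -/
theorem exists_system_eq {Y : Type u} [Group Y] [Finite Y] (hY : Group.IsSolvable Y) (N : Subgroup Y) [N.Normal]
    {K : Subgroup Y} (hK : IsCarter K) (hKN : K ⊓ N = ⊥) (hsup : K ⊔ N = ⊤) :
    ∃ C : Nat.Primes → Subgroup Y, Cfsg.IsComplementSystem C ∧ Cfsg.systemNormalizer C = K := by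
  haveI := hY
  obtain ⟨C, hC, hle⟩ := (Cfsg.Agent.S0569.result (G := Y)).1 K hK
  refine ⟨C, hC, le_antisymm hle ?_⟩
  have hnil : Group.IsNilpotent (Y ⧸ N) := by
    haveI := hK.1
    refine Group.nilpotent_of_surjective ((QuotientGroup.mk' N).comp K.subtype) ?_
    intro y
    obtain ⟨y, rfl⟩ := QuotientGroup.mk'_surjective N y
    have hy : y ∈ K ⊔ N := hsup ▸ mem_top y
    rw [mem_sup_of_normal_right] at hy
    obtain ⟨k, hk, n, hn, rfl⟩ := hy
    refine ⟨⟨k, hk⟩, ?_⟩
    simp only [MonoidHom.coe_comp, Function.comp_apply, coe_subtype, QuotientGroup.mk'_apply]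
    rw [QuotientGroup.eq]
    simpa using hn
  have h1 := SystemNormalizer.sup_systemNormalizer_eq_top hY hC N hnil
  intro k hk
  have hk1 : k ∈ N ⊔ Cfsg.systemNormalizer C := h1 ▸ mem_top k
  rw [mem_sup_of_normal_left] at hk1
  obtain ⟨n, hn, d, hd, rfl⟩ := hk1
  have hn' : n ∈ K ⊓ N := ⟨by
    have := K.mul_mem hk (K.inv_mem (hle hd))
    simpa using this, hn⟩
  rw [hKN, mem_bot] at hn'
  rw [hn', one_mul]
  exact hd

/-- The invariant Sylow subgroup of the complement system. -/
theorem exists_invariant_sylow {Y : Type u} [Group Y] [Finite Y] (hY : Group.IsSolvable Y) (N : Subgroup Y)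
    [N.Normal] {K : Subgroup Y} (hK : IsCarter K) (hKN : K ⊓ N = ⊥) (hsup : K ⊔ N = ⊤) (l : ℕ) [hl : Fact l.Prime] :
    ∃ P : Sylow l Y, K ≤ normalizer ((P : Subgroup Y) : Set Y) := by
  classical
  obtain ⟨C, hC, rfl⟩ := exists_system_eq hY N hK hKN hsup
  set s : Finset Nat.Primes := ((Nat.card Y).primeFactors.attach.image
    (fun q => (⟨q.1, Nat.prime_of_mem_primeFactors q.2⟩ : Nat.Primes))).filter (fun q => (q : ℕ) ≠ l) with hs
  have hmem : ∀ q : Nat.Primes, (q : ℕ) ∣ Nat.card Y → (q : ℕ) ≠ l → q ∈ s := by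
    intro q hq hql
    exact Finset.mem_filter.mpr ⟨Finset.mem_image.mpr
      ⟨⟨(q : ℕ), Nat.mem_primeFactors.mpr ⟨q.2, hq, Nat.card_pos.ne'⟩⟩, Finset.mem_attach _ _, rfl⟩, hql⟩
  have hne : ∀ q ∈ s, (q : ℕ) ≠ l := fun q hq => (Finset.mem_filter.mp hq).2
  set T : Subgroup Y := ⨅ q ∈ s, C q with hT
  have hidx : T.index = ∏ q ∈ s, (C q).index := by
    refine ComplementSystem.index_iInf_of_coprime s C ?_
    intro i _ j _ hij
    rw [hC i, hC j]
    refine Nat.Coprime.pow _ _ ((Nat.coprime_primes i.2 j.2).mpr ?_)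
    exact fun h => hij (Subtype.ext h)
  have hlidx : ¬ l ∣ T.index := by
    rw [hidx, Prime.dvd_finsetProd_iff hl.out.prime]
    rintro ⟨q, hq, hd⟩
    rw [hC q] at hd
    exact hne q hq ((Nat.prime_dvd_prime_iff_eq hl.out q.2).mp (hl.out.dvd_of_dvd_pow hd)).symm
  have hTp : IsPGroup l T := by
    rw [IsPGroup.iff_card]
    refine ⟨_, Nat.eq_prime_pow_of_unique_prime_dvd Nat.card_pos.ne' ?_⟩
    intro q hq hqd
    by_contra hqne
    have h0 : (⟨q, hq⟩ : Nat.Primes) ∈ s :=
      hmem ⟨q, hq⟩ (hqd.trans (Subgroup.card_subgroup_dvd_card T)) hqne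
    have hle : T ≤ C ⟨q, hq⟩ := iInf₂_le _ h0
    have h1 : q ∣ Nat.card (C ⟨q, hq⟩) := hqd.trans (Subgroup.card_dvd_of_le hle)
    have h2 := ComplementSystem.coprime_card_of_index hq (hC ⟨q, hq⟩)
    exact (hq.coprime_iff_not_dvd.mp h2.symm) h1
  refine ⟨hTp.toSylow hlidx, ?_⟩
  intro k hk
  change k ∈ normalizer (T : Set Y)
  rw [mem_normalizer_iff]
  have hk' : ∀ q : Nat.Primes, k ∈ normalizer (C q : Set Y) := by
    intro q
    exact (iInf_le (fun q : Nat.Primes => normalizer (C q : Set Y)) q) hk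
  intro x
  rw [hT, mem_iInf, mem_iInf]
  refine forall_congr' fun q => ?_
  rw [mem_iInf, mem_iInf]
  refine forall_congr' fun _ => ?_
  exact mem_normalizer_iff.mp (hk' q) x

end Cfsg.Agent.H381.Car
end

-- part: H381/Car/LemX
section
/-!
# Lemma X (helper381, for S3852)

`G` finite, all groups of smaller order satisfy the conjugacy of Carter subgroups, `N` normal in `G`, `K` a Carter
subgroup of `G` such that `K ∩ N` is an `ℓ`-group.  Then `K` normalises a Sylow `ℓ`-subgroup of `N`.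
The only non-elementary input is `Fpf` (= S4124): a finite group with a nilpotent group of automorphisms without
common fixed points is solvable.
-/

set_option autoImplicit false
set_option linter.style.haveILetI false

namespace Cfsg.Agent.H381.Car

open Subgroup Pointwise Cfsg.Agent.Solvable.Carter Cfsg.Agent.H18.Carter

universe u

/-- S4124. -/
def Fpf : Prop :=
  ∀ (G A : Type u) [Group G] [Finite G] [Group A] [Finite A] [MulDistribMulAction A G] [FaithfulSMul A G],
    Group.IsNilpotent A → (∀ g : G, (∀ a : A, a • g = g) → g = 1) → Group.IsSolvable G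

/-- The internal form of `Fpf`. -/
theorem solvable_of_centralizer (hF : Fpf.{u}) {Y : Type u} [Group Y] [Finite Y] {K N : Subgroup Y}
    (hK : Group.IsNilpotent K) (hKN : K ≤ normalizer (N : Set Y))
    (hC : ∀ n ∈ N, (∀ k ∈ K, k * n = n * k) → n = 1) : Group.IsSolvable N := by
  classical
  -- the action of `K` on `N` by conjugation
  let f : K →* MulAut N :=
    { toFun := fun k =>
        { toFun := fun n => ⟨k * n * (k : Y)⁻¹, (mem_normalizer_iff.mp (hKN k.2) n).mp n.2⟩
          invFun := fun n => ⟨(k : Y)⁻¹ * n * k, by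
            have h := (mem_normalizer_iff.mp (hKN (K.inv_mem k.2)) n).mp n.2
            simpa only [_root_.inv_inv] using h⟩
          left_inv := fun n => by ext; simp [mul_assoc]
          right_inv := fun n => by ext; simp only [mul_assoc, _root_.mul_inv_cancel_left, _root_.mul_inv_cancel, _root_.mul_one]
          map_mul' := fun a b => by ext; simp only [mul_assoc, _root_.Subgroup.coe_mul, _root_.MulMemClass.mk_mul_mk, _root_.inv_mul_cancel_left] }
      map_one' := by ext; simp only [_root_.OneMemClass.coe_one, _root_.one_mul, _root_.inv_one, _root_.mul_one, _root_.Subtype.coe_eta, _root_.MulEquiv.coe_mk, _root_.Equiv.coe_fn_mk, _root_.MulAut.one_apply]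
      map_mul' := fun a b => by ext; simp only [mul_assoc, _root_.Subgroup.coe_mul, _root_.mul_inv_rev, _root_.MulEquiv.coe_mk, _root_.Equiv.coe_fn_mk, _root_.MulAut.mul_apply] }
  have hf : ∀ (k : K) (n : N), ((f k n : N) : Y) = k * n * (k : Y)⁻¹ := fun k n => rfl
  haveI : Group.IsNilpotent K := hK
  have hA : Group.IsNilpotent f.range :=
    Group.nilpotent_of_surjective f.rangeRestrict f.rangeRestrict_surjective
  refine hF N f.range hA ?_
  intro n hn
  ext
  refine hC n n.2 fun k hk => ?_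
  have h := hn ⟨f ⟨k, hk⟩, ⟨⟨k, hk⟩, rfl⟩⟩
  have h2 : f ⟨k, hk⟩ n = n := h
  have h3 := congrArg (fun z : N => (z : Y)) h2
  simp only [hf] at h3
  calc k * (n : Y) = (k * n * k⁻¹) * k := by group
    _ = n * k := by rw [h3]

theorem le_normalizer_sup {Y : Type u} [Group Y] {K A B : Subgroup Y} (hA : K ≤ normalizer (A : Set Y))
    (hB : K ≤ normalizer (B : Set Y)) : K ≤ normalizer ((A ⊔ B : Subgroup Y) : Set Y) := by
  intro k hk
  have h2 := hA hk
  have h3 := hB hk
  rw [mem_normalizer_iff_map_conj_eq] at h2 h3 ⊢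
  rw [Subgroup.map_sup, h2, h3]

theorem le_normalizer_inf {Y : Type u} [Group Y] {K A B : Subgroup Y} (hA : K ≤ normalizer (A : Set Y))
    (hB : K ≤ normalizer (B : Set Y)) : K ≤ normalizer ((A ⊓ B : Subgroup Y) : Set Y) := by
  intro k hk
  have h2 := hA hk
  have h3 := hB hk
  rw [mem_normalizer_iff] at h2 h3 ⊢
  intro x
  rw [mem_inf, mem_inf, h2, h3]

theorem le_normalizer_of_normal {Y : Type u} [Group Y] (K A : Subgroup Y) [A.Normal] :
    K ≤ normalizer (A : Set Y) := by
  rw [normalizer_eq_top]; exact le_top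

/-- **Lemma X.** -/
theorem lemma_x (hF : Fpf.{u}) {G : Type u} [Group G] [Finite G]
    (IH : ∀ (B : Type u) [Group B] [Finite B], Nat.card B < Nat.card G → CC B) (N : Subgroup G) [N.Normal]
    {K : Subgroup G} (hK : IsCarter K) {l : ℕ} [hl : Fact l.Prime] (hKN : IsPGroup l (K ⊓ N : Subgroup G)) :
    ∃ P : Subgroup G, P ≤ N ∧ IsPGroup l P ∧ ¬ l ∣ P.relIndex N ∧ K ≤ normalizer (P : Set G) := by
  classical
  let S : Set (Subgroup G) := {Q | Q ≤ N ∧ IsPGroup l Q ∧ K ≤ normalizer (Q : Set G)}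
  have hbot : (⊥ : Subgroup G) ∈ S := ⟨bot_le, IsPGroup.of_bot, le_normalizer_of_normal _ _⟩
  obtain ⟨Q, ⟨hQN, hQp, hKQ⟩, hmax⟩ := (Set.toFinite S).exists_maximal ⟨_, hbot⟩
  refine ⟨Q, hQN, hQp, ?_, hKQ⟩
  -- `K ∩ N ≤ Q`
  have hKNQ : K ⊓ N ≤ Q := by
    have h1 : (K ⊓ N) ⊔ Q ∈ S := by
      refine ⟨sup_le inf_le_right hQN, ?_, ?_⟩
      · exact hKN.to_sup_of_normal_right' hQp (inf_le_left.trans hKQ)
      · exact le_normalizer_sup (le_normalizer_inf le_normalizer (le_normalizer_of_normal _ _)) hKQ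
    exact le_sup_left.trans (hmax h1 le_sup_right)
  set M : Subgroup G := N ⊓ normalizer (Q : Set G) with hM
  set Y : Subgroup G := K ⊔ M with hY
  have hKY : K ≤ Y := le_sup_left
  have hMY : M ≤ Y := le_sup_right
  have hQM : Q ≤ M := le_inf hQN le_normalizer
  have hQY : Q ≤ Y := hQM.trans hMY
  have hYQ : Y ≤ normalizer (Q : Set G) := sup_le hKQ inf_le_right
  haveI hQn : (Q.subgroupOf Y).Normal := by
    have := normal_subgroupOf_of_le_normalizer hYQ
    exact this
  let f := QuotientGroup.mk' (Q.subgroupOf Y)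
  have hfs : Function.Surjective f := QuotientGroup.mk'_surjective _
  have hKC : IsCarter ((K.subgroupOf Y).map f) := by
    refine IsCarter.map hfs ?_ (hK.subgroupOf hKY)
    intro H hH
    refine IH H ?_
    calc Nat.card H < Nat.card Y := by
          refine lt_of_le_of_ne (Nat.le_of_dvd Nat.card_pos (card_subgroup_dvd_card H)) fun h => hH ?_
          exact eq_top_of_card_eq H h
      _ ≤ Nat.card G := Nat.le_of_dvd Nat.card_pos (card_subgroup_dvd_card Y)
  set Kb := (K.subgroupOf Y).map f with hKb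
  have hMnn : normalizer (Q : Set G) ≤ normalizer (M : Set G) :=
    le_normalizer_inf (le_normalizer_of_normal _ _) le_normalizer
  haveI hMn : (M.subgroupOf Y).Normal := normal_subgroupOf_of_le_normalizer (hYQ.trans hMnn)
  set Nb := (M.subgroupOf Y).map f with hNb
  haveI hNbn : Nb.Normal := hMn.map f hfs
  have hinf : Kb ⊓ Nb = ⊥ := by
    rw [eq_bot_iff]
    rintro z ⟨⟨k, hk, hkz⟩, ⟨n, hn, hnz⟩⟩
    rw [SetLike.mem_coe, mem_subgroupOf] at hk hn
    have h1 : k⁻¹ * n ∈ Q.subgroupOf Y := by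
      rw [← QuotientGroup.eq]
      exact hkz.trans hnz.symm
    rw [mem_subgroupOf] at h1
    have h2 : (k : G) ∈ N := by
      have h3 := N.mul_mem (inf_le_left (a := N) hn : (n : G) ∈ N) (N.inv_mem (hQN h1))
      simpa only [_root_.Subgroup.coe_mul, _root_.InvMemClass.coe_inv, _root_.mul_inv_rev, _root_.inv_inv, _root_.mul_inv_cancel_left] using h3
    have h3 : (k : G) ∈ Q := hKNQ ⟨hk, h2⟩
    rw [mem_bot, ← hkz]
    exact (QuotientGroup.eq_one_iff k).mpr (mem_subgroupOf.mpr h3)
  have hsup : Kb ⊔ Nb = ⊤ := by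
    rw [hKb, hNb, ← Subgroup.map_sup, ← subgroupOf_sup hKY hMY, ← hY, subgroupOf_self]
    exact map_top_of_surjective f hfs
  -- `Nb` is solvable
  have hNsol : Group.IsSolvable Nb := by
    refine solvable_of_centralizer hF hKC.1 (by rw [normalizer_eq_top]; exact le_top) ?_
    intro n hn hc
    have h1 : n ∈ normalizer (Kb : Set (Y ⧸ Q.subgroupOf Y)) := by
      rw [mem_normalizer_iff]
      intro x
      constructor
      · intro hx
        have := hc x hx
        rw [← this, mul_inv_cancel_right]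
        exact hx
      · intro hx
        have h2 := hc _ hx
        have h3 : x = n * x * n⁻¹ := by
          have h4 : n * x * n⁻¹ * n = n * (n * x * n⁻¹) := h2
          have h5 : n * x = n * (n * x * n⁻¹) := by rw [← h4]; group
          exact mul_left_cancel h5
        rw [h3]; exact hx
    rw [hKC.2] at h1
    have : n ∈ Kb ⊓ Nb := ⟨h1, hn⟩
    rwa [hinf, mem_bot] at this
  have hYsol : Group.IsSolvable (Y ⧸ Q.subgroupOf Y) := by
    haveI := hNsol
    haveI : Group.IsNilpotent Kb := hKC.1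
    have h1 : Group.IsSolvable ((Y ⧸ Q.subgroupOf Y) ⧸ Nb) := by
      refine Group.isSolvable_of_surjective (f := (QuotientGroup.mk' Nb).comp Kb.subtype) ?_
      intro y
      obtain ⟨y, rfl⟩ := QuotientGroup.mk'_surjective Nb y
      have hy : y ∈ Kb ⊔ Nb := hsup ▸ mem_top y
      rw [mem_sup_of_normal_right] at hy
      obtain ⟨k, hk, n, hn, rfl⟩ := hy
      refine ⟨⟨k, hk⟩, ?_⟩
      simp only [MonoidHom.coe_comp, Function.comp_apply, coe_subtype, QuotientGroup.mk'_apply]
      rw [QuotientGroup.eq]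
      simpa only [_root_.inv_mul_cancel_left] using hn
    exact (Group.isSolvable_iff_subgroup_quotient Nb).mpr ⟨hNsol, h1⟩
  obtain ⟨P, hP⟩ := exists_invariant_sylow hYsol Nb hKC hinf hsup l
  set P0 : Subgroup (Y ⧸ Q.subgroupOf Y) := (P : Subgroup (Y ⧸ Q.subgroupOf Y)) ⊓ Nb with hP0
  have hP0n : Kb ≤ normalizer (P0 : Set (Y ⧸ Q.subgroupOf Y)) :=
    le_normalizer_inf hP (le_normalizer_of_normal _ _)
  have hP0p : IsPGroup l P0 := P.2.to_le inf_le_left
  -- pull back
  have hker : f.ker = Q.subgroupOf Y := QuotientGroup.ker_mk' _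
  have hR : (P0.comap f).map Y.subtype ∈ S := by
    refine ⟨?_, ?_, ?_⟩
    · rintro _ ⟨y, hy, rfl⟩
      have h1 : f y ∈ Nb := (mem_comap.mp hy).2
      obtain ⟨m, hm, hmy⟩ := h1
      have h2 : m⁻¹ * y ∈ Q.subgroupOf Y := by
        rw [← QuotientGroup.eq]
        exact hmy
      have h3 := N.mul_mem (mem_inf.mp (mem_subgroupOf.mp hm)).1 (hQN (mem_subgroupOf.mp h2))
      simpa only [_root_.Subgroup.subtype_apply, _root_.Subgroup.coe_mul, _root_.InvMemClass.coe_inv, _root_.mul_inv_cancel_left] using h3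
    · refine IsPGroup.map ?_ Y.subtype
      refine hP0p.comap_of_ker_isPGroup f ?_
      rw [hker]
      exact hQp.comap_of_injective Y.subtype Y.subtype_injective
    · intro k hk
      have h1 : f ⟨k, hKY hk⟩ ∈ normalizer (P0 : Set (Y ⧸ Q.subgroupOf Y)) :=
        hP0n ⟨⟨k, hKY hk⟩, mem_subgroupOf.mpr hk, rfl⟩
      rw [mem_normalizer_iff] at h1 ⊢
      intro x
      constructor
      · rintro ⟨y, hy, rfl⟩
        refine ⟨⟨k, hKY hk⟩ * y * ⟨k, hKY hk⟩⁻¹, ?_, by simp only [_root_.Subgroup.subtype_apply, _root_.Subgroup.coe_mul, _root_.InvMemClass.coe_inv]⟩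
        rw [SetLike.mem_coe, mem_comap] at hy ⊢
        rw [map_mul, map_mul, map_inv]
        exact (h1 _).mp hy
      · rintro ⟨y, hy, hyx⟩
        refine ⟨⟨k, hKY hk⟩⁻¹ * y * ⟨k, hKY hk⟩, ?_, ?_⟩
        · rw [SetLike.mem_coe, mem_comap] at hy ⊢
          rw [map_mul, map_mul, map_inv, h1]
          simpa only [mul_assoc, _root_.mul_inv_cancel_left, _root_.mul_inv_cancel, _root_.mul_one] using hy
        · simp only [coe_subtype, coe_mul, coe_inv] at hyx ⊢
          rw [hyx]; group
  have hQR : Q ≤ (P0.comap f).map Y.subtype := by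
    intro q hq
    refine ⟨⟨q, hQY hq⟩, ?_, rfl⟩
    rw [SetLike.mem_coe, mem_comap]
    have : f ⟨q, hQY hq⟩ = 1 := (QuotientGroup.eq_one_iff _).mpr (mem_subgroupOf.mpr hq)
    rw [this]; exact one_mem _
  have hRQ := hmax hR hQR
  have hP0b : P0 = ⊥ := by
    rw [eq_bot_iff]
    intro z hz
    obtain ⟨y, rfl⟩ := hfs z
    have h1 : (y : G) ∈ Q := hRQ ⟨y, hz, rfl⟩
    rw [mem_bot]
    exact (QuotientGroup.eq_one_iff y).mpr (mem_subgroupOf.mpr h1)
  have hlN : ¬ l ∣ Nat.card Nb := by
    intro hd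
    obtain ⟨x, hx⟩ := exists_prime_orderOf_dvd_card' l hd
    have h1 : IsPGroup l (zpowers (x : Y ⧸ Q.subgroupOf Y)) := by
      refine IsPGroup.of_card (n := 1) ?_
      rw [Nat.card_zpowers, orderOf_coe, hx, pow_one]
    obtain ⟨P', hP'⟩ := h1.exists_le_sylow
    obtain ⟨g, hg⟩ := MulAction.exists_smul_eq (Y ⧸ Q.subgroupOf Y) P P'
    have h2 : (x : Y ⧸ Q.subgroupOf Y) ∈ (P' : Subgroup (Y ⧸ Q.subgroupOf Y)) := hP' (mem_zpowers _)
    rw [← hg, Sylow.coe_subgroup_smul, mem_conj_smul_iff] at h2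
    have h3 : g⁻¹ * (x : Y ⧸ Q.subgroupOf Y) * g ∈ P0 := by
      refine ⟨h2, ?_⟩
      have := Normal.conj_mem hNbn _ x.2 g⁻¹
      simpa only [_root_.Subgroup.coe_toSubmonoid, _root_.SetLike.mem_coe, _root_.inv_inv] using this
    rw [hP0b, mem_bot] at h3
    have h4 : (x : Y ⧸ Q.subgroupOf Y) = 1 := by
      calc (x : Y ⧸ Q.subgroupOf Y) = g * (g⁻¹ * x * g) * g⁻¹ := by group
        _ = 1 := by rw [h3]; group
    have h5 : x = 1 := Subtype.ext h4
    rw [h5, orderOf_one] at hx
    exact hl.out.one_lt.ne hx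
  intro hd
  refine hlN ?_
  rw [hNb, ← relIndex_ker, hker, relIndex_subgroupOf hMY]
  obtain ⟨n, hn⟩ := IsPGroup.iff_card.mp hQp
  have h1 : Nat.card (Q.subgroupOf N) = l ^ n := by
    rw [← hn]; exact Nat.card_congr (subgroupOfEquivOfLe hQN).toEquiv
  have h2 : l ^ (n + 1) ∣ Nat.card N := by
    rw [← (Q.subgroupOf N).card_mul_index, h1, pow_succ]
    exact Nat.mul_dvd_mul_left _ hd
  have h3 := Sylow.prime_dvd_card_quotient_normalizer h2 h1
  have h4 : (Q.subgroupOf N).relIndex (normalizer (Q.subgroupOf N : Set N)) = Q.relIndex M := by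
    rw [← subgroupOf_normalizer_eq hQN, ← relIndex_subgroupOf (H := Q) (K := M) (L := N) inf_le_left]
    congr 1
    rw [hM, inf_subgroupOf_left]
  rw [← h4]
  exact h3

/-- **Lemma X** for a subgroup `N` normalised by `K`. -/
theorem lemma_x' (hF : Fpf.{u}) {G : Type u} [Group G] [Finite G]
    (IH : ∀ (B : Type u) [Group B] [Finite B], Nat.card B < Nat.card G → CC B) (N : Subgroup G)
    {K : Subgroup G} (hK : IsCarter K) (hn : K ≤ normalizer (N : Set G)) {l : ℕ} [hl : Fact l.Prime]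
    (hKN : IsPGroup l (K ⊓ N : Subgroup G)) :
    ∃ P : Subgroup G, P ≤ N ∧ IsPGroup l P ∧ ¬ l ∣ P.relIndex N ∧ K ≤ normalizer (P : Set G) := by
  set Y : Subgroup G := K ⊔ N with hY
  have hKY : K ≤ Y := le_sup_left
  have hNY : N ≤ Y := le_sup_right
  haveI : (N.subgroupOf Y).Normal := normal_subgroupOf_of_le_normalizer (sup_le hn le_normalizer)
  have IH' : ∀ (B : Type u) [Group B] [Finite B], Nat.card B < Nat.card Y → CC B := by
    intro B _ _ hB
    exact IH B (hB.trans_le (Nat.le_of_dvd Nat.card_pos (card_subgroup_dvd_card Y)))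
  have h1 : IsPGroup l (K.subgroupOf Y ⊓ N.subgroupOf Y : Subgroup Y) := by
    have : K.subgroupOf Y ⊓ N.subgroupOf Y = (K ⊓ N).subgroupOf Y := rfl
    rw [this]
    exact hKN.comap_of_injective Y.subtype Y.subtype_injective
  obtain ⟨P, hPN, hPp, hPl, hPK⟩ := lemma_x hF IH' (N.subgroupOf Y) (hK.subgroupOf hKY) h1
  refine ⟨P.map Y.subtype, ?_, hPp.map _, ?_, ?_⟩
  · rintro _ ⟨y, hy, rfl⟩
    exact mem_subgroupOf.mp (hPN hy)
  · intro hd
    refine hPl ?_
    rw [← relIndex_subgroupOf hNY] at hd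
    have h2 : (P.map Y.subtype).subgroupOf Y = P := by
      ext y
      rw [mem_subgroupOf]
      constructor
      · rintro ⟨z, hz, hzy⟩
        have : z = y := Subtype.ext hzy
        exact this ▸ hz
      · intro hy; exact ⟨y, hy, rfl⟩
    rwa [h2] at hd
  · intro k hk
    have h2 := hPK (show (⟨k, hKY hk⟩ : Y) ∈ K.subgroupOf Y from mem_subgroupOf.mpr hk)
    rw [mem_normalizer_iff] at h2 ⊢
    intro x
    constructor
    · rintro ⟨y, hy, rfl⟩
      exact ⟨_, (h2 y).mp hy, rfl⟩
    · rintro ⟨y, hy, hyx⟩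
      refine ⟨⟨k, hKY hk⟩⁻¹ * y * ⟨k, hKY hk⟩, ?_, ?_⟩
      · rw [SetLike.mem_coe, h2]
        simpa only [mul_assoc, _root_.mul_inv_cancel_left, _root_.mul_inv_cancel, _root_.mul_one, _root_.SetLike.mem_coe] using hy
      · simp only [coe_subtype, coe_mul, coe_inv] at hyx ⊢
        rw [hyx]; group

end Cfsg.Agent.H381.Car
end

-- part: H381/Car/Conj
section
/-!
# Consequences of Lemma X for almost simple groups (helper381, for S3852)
-/

set_option autoImplicit false
set_option linter.style.haveILetI false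

namespace Cfsg.Agent.H381.Car

open Subgroup Pointwise Cfsg.Agent.Solvable.Carter Cfsg.Agent.H18.Carter

universe u

variable {G : Type u} [Group G] [Finite G] {S : Subgroup G} [S.Normal]

/-- (X0) -/
theorem inf_ne_bot (hF : Fpf.{u}) (c : Ctx G S) {K : Subgroup G} (hK : IsCarter K) : K ⊓ S ≠ ⊥ := by
  intro hb
  refine c.S_not_solvable (solvable_of_centralizer hF hK.1 (le_normalizer_of_normal _ _) ?_)
  intro n hn hc
  have h1 : n ∈ normalizer (K : Set G) := by
    rw [mem_normalizer_iff]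
    intro x
    constructor
    · intro hx
      rw [← hc x hx, mul_inv_cancel_right]
      exact hx
    · intro hx
      have h2 := hc _ hx
      have h3 : x = n * x * n⁻¹ := by
        have h4 : n * x * n⁻¹ * n = n * (n * x * n⁻¹) := h2
        have h5 : n * x = n * (n * x * n⁻¹) := by rw [← h4]; group
        exact mul_left_cancel h5
      rw [h3]; exact hx
  rw [hK.2] at h1
  have : n ∈ K ⊓ S := ⟨h1, hn⟩
  rwa [hb, mem_bot] at this

/-- Two Carter subgroups meeting `S` in `ℓ`-groups (the same `ℓ`) are conjugate. -/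
theorem conj_of_inf_pgroup (hF : Fpf.{u}) (c : Ctx G S) {K H : Subgroup G} (hK : IsCarter K) (hH : IsCarter H)
    {l : ℕ} [hl : Fact l.Prime] (h1 : IsPGroup l (K ⊓ S : Subgroup G)) (h2 : IsPGroup l (H ⊓ S : Subgroup G)) :
    ∃ g : G, MulAut.conj g • K = H := by
  obtain ⟨P, hPS, hPp, hPl, hPK⟩ := lemma_x hF c.min S hK h1
  obtain ⟨R, hRS, hRp, hRl, hRH⟩ := lemma_x hF c.min S hH h2
  have hp1 : IsPGroup l (P.subgroupOf S) := hPp.comap_of_injective S.subtype S.subtype_injective
  have hp2 : IsPGroup l (R.subgroupOf S) := hRp.comap_of_injective S.subtype S.subtype_injective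
  obtain ⟨s, hs⟩ := MulAction.exists_smul_eq S (hp1.toSylow hPl) (hp2.toSylow hRl)
  have hs' : MulAut.conj s • P.subgroupOf S = R.subgroupOf S := by
    have := congrArg (fun Q : Sylow l S => (Q : Subgroup S)) hs
    exact this
  have hPR : MulAut.conj (s : G) • P = R := by
    rw [conj_smul_subgroupOf hPS, subgroupOf_inj] at hs'
    rwa [inf_eq_left.mpr hRS, inf_eq_left.mpr (conj_smul_le_of_le hPS s)] at hs'
  have hPb : P ≠ ⊥ := by
    rintro rfl
    rw [relIndex_bot_left] at hPl
    refine inf_ne_bot hF c hK ?_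
    have h3 : IsPGroup l (K ⊓ S : Subgroup G) := h1
    obtain ⟨n, hn⟩ := IsPGroup.iff_card.mp h3
    rcases Nat.eq_zero_or_pos n with h0 | h0
    · rw [h0, pow_zero] at hn
      exact card_eq_one.mp hn
    · exfalso
      refine hPl ((dvd_pow_self l h0.ne').trans ?_)
      rw [← hn]
      exact card_dvd_of_le inf_le_right
  have hPsol : Group.IsNilpotent P := hPp.isNilpotent
  refine c.conj_of_le (M := normalizer (R : Set G)) ?_ (K := MulAut.conj (s : G) • K) (hK.conj _) hH ?_ hRH |>.imp' (fun g => g * s) ?_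
  · have hRb : R ≠ ⊥ := by
      rintro rfl
      rw [smul_eq_iff_eq_inv_smul, smul_bot] at hPR
      exact hPb hPR
    have : Group.IsNilpotent R := hRp.isNilpotent
    exact c.norm_ne_top hRb inferInstance
  · intro x hx
    rw [mem_cj] at hx
    have h3 := hPK hx
    rw [← hPR, mem_normalizer_conj_smul]
    exact h3
  · rintro g ⟨_, hg⟩
    rw [map_mul, mul_smul]
    exact hg

/-- all Carter subgroups meet `S` in `ℓ`-groups -/
theorem cc_of_l (hF : Fpf.{u}) (c : Ctx G S) (l : ℕ) [Fact l.Prime]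
    (h : ∀ K : Subgroup G, IsCarter K → IsPGroup l (K ⊓ S : Subgroup G)) : CC G :=
  fun K H hK hH => conj_of_inf_pgroup hF c hK hH (h K hK) (h H hH)

/-- A prime `r` dividing `|K ∩ S|` divides the order of an element of `Z(K) ∩ S`. -/
theorem exists_central {K : Subgroup G} (hK : Group.IsNilpotent K) {r : ℕ} [hr : Fact r.Prime]
    (hd : r ∣ Nat.card (K ⊓ S : Subgroup G)) :
    ∃ z ∈ S, z ∈ K ∧ orderOf z = r ∧ K ≤ centralizer ({z} : Set G) := by
  haveI := hK
  set D : Subgroup K := S.subgroupOf K with hD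
  have hDn : D.Normal := inferInstance
  have hcard : Nat.card D = Nat.card (K ⊓ S : Subgroup G) := by
    rw [inf_comm]
    exact Nat.card_congr ((subgroupOfEquivOfLe (inf_le_right : S ⊓ K ≤ K)).toEquiv.symm.trans
      (MulEquiv.subgroupCongr (inf_subgroupOf_right S K)).toEquiv).symm
  -- the Sylow `r`-subgroup of `K` is normal
  obtain ⟨R⟩ : Nonempty (Sylow r K) := inferInstance
  have hRn : (R : Subgroup K).Normal := by
    have h := ((Group.isNilpotent_of_finite_tfae (G := K)).out 0 3).mp hK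
    exact h r hr R
  have hne : D ⊓ (R : Subgroup K) ≠ ⊥ := by
    intro hb
    rw [← hcard] at hd
    obtain ⟨x, hx⟩ := exists_prime_orderOf_dvd_card' r hd
    have h1 : IsPGroup r (zpowers (x : K)) := by
      refine IsPGroup.of_card (n := 1) ?_
      rw [Nat.card_zpowers, orderOf_coe, hx, pow_one]
    obtain ⟨R', hR'⟩ := h1.exists_le_sylow
    obtain ⟨g, hg⟩ := MulAction.exists_smul_eq K R R'
    have h2 : (x : K) ∈ (R' : Subgroup K) := hR' (mem_zpowers _)
    rw [← hg, Sylow.coe_subgroup_smul, mem_conj_smul_iff] at h2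
    have h2' : (x : K) ∈ (R : Subgroup K) := by
      have := hRn.conj_mem _ h2 g
      simpa only [mul_assoc, _root_.mul_inv_cancel_left, _root_.mul_inv_cancel, _root_.mul_one] using this
    have h3 : (x : K) ∈ D ⊓ (R : Subgroup K) := ⟨x.2, h2'⟩
    rw [hb, mem_bot] at h3
    have h4 : x = 1 := Subtype.ext h3
    rw [h4, orderOf_one] at hx
    exact hr.out.one_lt.ne hx
  have h5 := Cfsg.Agent.Lib.NormalAbelian.normal_inf_center_ne_bot (D ⊓ (R : Subgroup K)) hne
  have h6 : r ∣ Nat.card ((D ⊓ (R : Subgroup K)) ⊓ center K : Subgroup K) := by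
    have h7 : IsPGroup r ((D ⊓ (R : Subgroup K)) ⊓ center K : Subgroup K) :=
      R.2.to_le (inf_le_left.trans inf_le_right)
    obtain ⟨n, hn⟩ := IsPGroup.iff_card.mp h7
    rcases Nat.eq_zero_or_pos n with h0 | h0
    · rw [h0, pow_zero] at hn
      exact absurd (card_eq_one.mp hn) h5
    · rw [hn]; exact dvd_pow_self r h0.ne'
  obtain ⟨z, hz⟩ := exists_prime_orderOf_dvd_card' r h6
  obtain ⟨⟨⟨z, hzK⟩, ⟨⟨hzD, _⟩, hzc⟩⟩, hz⟩ : ∃ w : ((D ⊓ (R : Subgroup K)) ⊓ center K : Subgroup K), orderOf w = r := ⟨z, hz⟩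
  refine ⟨z, mem_subgroupOf.mp hzD, hzK, ?_, ?_⟩
  · rw [← hz, ← orderOf_coe, ← orderOf_coe]
  · intro k hk
    rw [mem_centralizer_singleton_iff]
    have := mem_center_iff.mp hzc ⟨k, hk⟩
    exact congrArg Subtype.val this

/-- Elements of order `r` in `S` are conjugate to proper powers: then `r ∤ |K ∩ S|`. -/
theorem not_dvd_of_power (c : Ctx G S) {r : ℕ} [hr : Fact r.Prime]
    (h : ∀ z ∈ S, orderOf z = r → ∃ g : G, g * z * g⁻¹ ≠ z ∧ g * z * g⁻¹ ∈ zpowers z)
    {K : Subgroup G} (hK : IsCarter K) : ¬ r ∣ Nat.card (K ⊓ S : Subgroup G) := by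
  intro hd
  obtain ⟨z, hzS, hzK, hz, hc⟩ := exists_central (S := S) hK.1 hd
  obtain ⟨g, hg, hg'⟩ := h z hzS hz
  refine hg (c.eq_of_conj hK hc ?_)
  obtain ⟨i, hi⟩ := hg'
  have hi' : z ^ i = g * z * g⁻¹ := hi
  intro k hk
  rw [← hi', mem_centralizer_singleton_iff]
  have h1 : k * z = z * k := mem_centralizer_singleton_iff.mp (hc hk)
  exact (Commute.zpow_right h1 i : Commute k (z ^ i))

/-- **Real rows.** -/
theorem cc_of_real (hF : Fpf.{u}) (c : Ctx G S)
    (h : ∀ z ∈ S, (orderOf z).Prime → orderOf z ≠ 2 → ∃ g : G, g * z * g⁻¹ ≠ z ∧ g * z * g⁻¹ ∈ zpowers z) :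
    CC G := by
  haveI : Fact (Nat.Prime 2) := ⟨Nat.prime_two⟩
  refine cc_of_l hF c 2 fun K hK => ?_
  rw [IsPGroup.iff_card]
  refine ⟨_, Nat.eq_prime_pow_of_unique_prime_dvd Nat.card_pos.ne' ?_⟩
  intro r hr hd
  by_contra hne
  haveI : Fact r.Prime := ⟨hr⟩
  refine not_dvd_of_power c (r := r) ?_ hK hd
  intro z hz ho
  exact h z hz (ho ▸ hr) (ho ▸ hne)

end Cfsg.Agent.H381.Car
end
end

-- part: H381/Car/Wp
section
set_option linter.all false
open scoped Cfsg.Agent.FastGrp

/-!
# Carter subgroups in a minimal counterexample: the W-principle and the lifting lemma (S3852, helper381)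

* `norm_le_of_carter` : `K ≤ M` and `CC M` give `N_G(M) = M`;
* `w_principle` : `X` normalised by `K`, `K X ≠ G`, `σ ∈ N_G(X)` with `[σ, K] ≤ X` lies in `K X`;
* `norm_le` : `N_G(P) = P C_G(P)` for `P = O_p(K) ≠ 1`;
* `sylow_lift` : `t ∈ Z(K)` a `p`-element, `O_p(K)` Sylow in `C_G(t)`: then `O_p(K)` is Sylow in `G`.
-/

set_option autoImplicit false
set_option linter.unusedSectionVars false

namespace Cfsg.Agent.H381.Car

open Subgroup Pointwise
open Cfsg.Agent.Solvable.Carter Cfsg.Agent.H18.Carter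

universe u

section

variable {G : Type u} [Group G]

/-- A subgroup containing a Carter subgroup `K`, with conjugate Carter subgroups, is its own normaliser. -/
theorem norm_le_of_carter {M K : Subgroup G} (hM : CC M) (hK : IsCarter K) (hKM : K ≤ M) :
    normalizer (M : Set G) ≤ M := by
  intro g hg
  have h1 : MulAut.conj g • K ≤ M := by
    rw [← cj_eq_self_iff.2 hg]
    exact Subgroup.pointwise_smul_le_pointwise_smul_iff.2 hKM
  obtain ⟨y, hy, hh⟩ := exists_conj_of_le hM (hK.conj g) hK h1 hKM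
  rw [cj_cj, cj_eq_self_iff, hK.2] at hh
  have h2 := mul_mem (inv_mem hy) (hKM hh)
  rwa [inv_mul_cancel_left] at h2

/-- **W-principle**, general form. -/
theorem w_principle_of {K X : Subgroup G} (hM : CC ↥(K ⊔ X)) (hK : IsCarter K) {s : G}
    (hs : s ∈ normalizer (X : Set G)) (h : ∀ k ∈ K, s * k * s⁻¹ * k⁻¹ ∈ X) : s ∈ K ⊔ X := by
  refine norm_le_of_carter hM hK le_sup_left ?_
  have key : ∀ s : G, s ∈ normalizer (X : Set G) → (∀ k ∈ K, s * k * s⁻¹ * k⁻¹ ∈ X) →
      MulAut.conj s • (K ⊔ X) ≤ K ⊔ X := by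
    intro s hs h
    rw [Subgroup.smul_sup]
    refine sup_le ?_ ?_
    · intro x hx
      rw [mem_cj] at hx
      have h1 := h _ hx
      have e : x = (s * (s⁻¹ * x * s) * s⁻¹ * (s⁻¹ * x * s)⁻¹) * (s⁻¹ * x * s) := by group
      rw [e]
      exact mul_mem (mem_sup_right h1) (mem_sup_left hx)
    · rw [cj_eq_self_iff.2 hs]
      exact le_sup_right
  rw [← cj_eq_self_iff]
  refine le_antisymm (key s hs h) ?_
  have h2 : ∀ k ∈ K, s⁻¹ * k * s⁻¹⁻¹ * k⁻¹ ∈ X := by
    intro k hk
    have h3 := h k hk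
    have h4 := (mem_normalizer_iff.1 (inv_mem hs) _).1 h3
    have h5 := inv_mem h4
    have e : s⁻¹ * k * s⁻¹⁻¹ * k⁻¹ = (s⁻¹ * (s * k * s⁻¹ * k⁻¹) * s⁻¹⁻¹)⁻¹ := by group
    rw [e]
    exact h5
  have h6 := key s⁻¹ (inv_mem hs) h2
  have h7 : MulAut.conj s • (MulAut.conj s⁻¹ • (K ⊔ X)) ≤ MulAut.conj s • (K ⊔ X) :=
    Subgroup.pointwise_smul_le_pointwise_smul_iff.2 h6
  rwa [cj_cj, mul_inv_cancel, cj_one] at h7

end

variable {G : Type u} [Group G] [Finite G] {S : Subgroup G} [S.Normal]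

/-- **W-principle.** -/
theorem w_principle (c : Ctx G S) {K X : Subgroup G} (hK : IsCarter K) (hne : K ⊔ X ≠ ⊤) {s : G}
    (hs : s ∈ normalizer (X : Set G)) (h : ∀ k ∈ K, s * k * s⁻¹ * k⁻¹ ∈ X) : s ∈ K ⊔ X :=
  w_principle_of (c.sub hne) hK hs h

/-- The normaliser of a subgroup `X ≠ 1, S` of `S` is a proper subgroup. -/
theorem norm_ne_top_of_lt (c : Ctx G S) {X : Subgroup G} (hX : X ≠ ⊥) (hXS : X ≤ S) (hne : X ≠ S) :
    normalizer (X : Set G) ≠ ⊤ := by
  intro h
  exact hne (le_antisymm hXS (c.le_of_normal (normalizer_eq_top_iff.1 h) hX))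

/-- **W-principle** inside `S`: `X` is a `K`-invariant subgroup of `S`, `s ∈ N_S(X)` and `[s, K] ≤ X`. -/
theorem w_principle_S (c : Ctx G S) {K X : Subgroup G} (hK : IsCarter K) (hX : X ≠ ⊥) (hXS : X ≤ S) (hne : X ≠ S)
    (hKX : K ≤ normalizer (X : Set G)) {s : G} (hsS : s ∈ S)
    (hs : s ∈ normalizer (X : Set G)) (h : ∀ k ∈ K, s * k * s⁻¹ * k⁻¹ ∈ X) : s ∈ (K ⊓ S) ⊔ X := by
  have h1 : K ⊔ X ≠ ⊤ := by
    intro h1
    apply norm_ne_top_of_lt c hX hXS hne
    rw [eq_top_iff, ← h1]
    exact sup_le hKX le_normalizer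
  obtain ⟨k, hk, x, hx, rfl⟩ := mul_mem_of_norm' hKX (w_principle c hK h1 hs h)
  refine mul_mem (mem_sup_left ⟨hk, ?_⟩) (mem_sup_right hx)
  have h2 := mul_mem hsS (inv_mem (hXS hx))
  rwa [mul_inv_cancel_right] at h2

/-- **(A3)** `N_G(P) = P C_G(P)` for a direct factor `P ≠ 1` of `K`. -/
theorem norm_le (c : Ctx G S) {K P : Subgroup G} (hK : IsCarter K) (hP : P ≠ ⊥) (hPK : P ≤ K)
    (hKP : K ≤ P ⊔ centralizer (P : Set G)) : normalizer (P : Set G) ≤ P ⊔ centralizer (P : Set G) := by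
  have hPs : Group.IsSolvable P := by
    have := hK.1
    exact Group.isSolvable_of_isSolvable_injective (f := inclusion hPK) (inclusion_injective _)
  have h1 : P ⊔ centralizer (P : Set G) ≤ normalizer (P : Set G) :=
    sup_le le_normalizer (centralizer_le_normalizer _)
  have h2 : P ⊔ centralizer (P : Set G) ≠ ⊤ := by
    intro h2
    exact c.norm_ne_top hP hPs (top_le_iff.1 (h2 ▸ h1))
  refine le_trans ?_ (norm_le_of_carter (c.sub h2) hK hKP)
  intro g hg
  rw [← cj_eq_self_iff] at hg ⊢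
  rw [Subgroup.smul_sup, cj_centralizer, hg]

end Cfsg.Agent.H381.Car
end
end
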